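import Groth.Agent.H24Val.DimOne
import Mathlib.RingTheory.NoetherNormalization
import Mathlib.RingTheory.Polynomial.ScaleRoots
import Mathlib.RingTheory.KrullDimension.Zero
import Mathlib.RingTheory.KrullDimension.Field

/-!
Closed points of the generic fibre of an algebra topologically of finite type over a complete
valuation ring of height one.
-/

universe u

open IsLocalRing

set_option linter.style.haveILetI false
set_option linter.unusedSectionVars false

namespace Groth.Agent.H24Val

open AdicRing

/-- A domain which is an integral injective extension of a non-field domain of dimension at most one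
has dimension one. -/
theorem ringKrullDim_eq_one_of_isIntegral {R B : Type*} [CommRing R] [IsDomain R]
    [Ring.KrullDimLE 1 R] [CommRing B] [IsDomain B] [Algebra R B] [Algebra.IsIntegral R B]
    (hinj : Function.Injective (algebraMap R B)) (hnf : ¬ IsField R) : ringKrullDim B = 1 := by
  have hle : Ring.KrullDimLE 1 B := by
    refine Ring.krullDimLE_one_iff_of_noZeroDivisors.mpr fun P hP hprime => ?_
    refine Ideal.isMaximal_of_isIntegral_of_isMaximal_comap (R := R) P ?_
    exact (Ring.krullDimLE_one_iff_of_noZeroDivisors.mp (inferInstance : Ring.KrullDimLE 1 R)) _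
      (fun h => hP (Ideal.eq_bot_of_comap_eq_bot h)) inferInstance
  rw [Ring.krullDimLE_iff] at hle
  refine eq_of_le_of_not_lt hle fun h' => hnf ?_
  have h'' : ringKrullDim B ≤ 0 := Order.le_of_lt_succ h'
  rw [← Nat.cast_zero, ← Ring.krullDimLE_iff] at h''
  exact isField_of_isIntegral_of_isField hinj Ring.KrullDimLE.isField_of_isDomain

variable {R : Type u} [CommRing R] [IsDomain R] [PreValuationRing R] [Ring.KrullDimLE 1 R] {t : R}
  [IsAdicComplete (Ideal.span {t}) R]

theorem not_isField_base (ht0 : t ≠ 0) : ¬ IsField R := by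
  haveI := isLocalRing_of_pre R
  intro h
  have := t_mem_maximalIdeal (R := R) (t := t)
  rw [IsLocalRing.isField_iff_maximalIdeal_eq.mp h, Ideal.mem_bot] at this
  exact ht0 this

variable {B : Type u} [CommRing B] [Algebra R B] [IsDomain B]

/-- A domain topologically of finite type, flat over the base, whose generic fibre is a field is
finite over the base. -/
theorem finite_of_localization_field (ht0 : t ≠ 0) (hB : TopFiniteType R (Ideal.span {t}) B)
    (hT : NoPowTorsion (Ideal.span {t}) B)
    (hfield : ∀ b : B, b ≠ 0 → ∃ (N : ℕ) (g : B), b * g = algebraMap R B t ^ N) :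
    Module.Finite R B := by
  classical
  haveI := isLocalRing_of_pre R
  have hbase : IsBase R (Ideal.span {t}) := ⟨‹_›, Or.inr ⟨‹_›, ‹_›, ‹_›, t, ht0, rfl⟩⟩
  haveI : IsAdicComplete (Ideal.span {t}) B := isAdicComplete_topFinite (A := B) (M := B) hbase hB
  haveI : IsAdicComplete ((Ideal.span {t}).map (algebraMap R B)) B :=
    (IsAdicComplete.map_algebraMap_iff _ _).2 inferInstance
  have hnu : ¬ IsUnit (algebraMap R B t) := not_isUnit_t hB
  have hinjR := injective_algebraMap (R := R) (t := t) (B := B) hT
  -- the finite type algebra `B ⧸ J`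
  let J : Ideal B := Ideal.span {algebraMap R B t}
  haveI hJft : Algebra.FiniteType R (B ⧸ J) := by
    obtain ⟨n, φ, hφ⟩ := hB
    let θ : MvPolynomial (Fin n) R →ₐ[R] B ⧸ J :=
      (Ideal.Quotient.mkₐ R J).comp (φ.comp (IsScalarTower.toAlgHom R (MvPolynomial (Fin n) R) _))
    refine Algebra.FiniteType.of_surjective θ fun z => ?_
    obtain ⟨b, rfl⟩ := Ideal.Quotient.mk_surjective z
    obtain ⟨x, rfl⟩ := hφ b
    obtain ⟨p, y, hp⟩ := exists_poly_approx x 1
    refine ⟨p, Ideal.Quotient.eq.mpr ?_⟩
    change φ (algebraMap _ _ p) - φ x ∈ J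
    rw [← neg_mem_iff, neg_sub, ← map_sub, hp, map_smul, pow_one, Algebra.smul_def]
    exact Ideal.mul_mem_right _ _ (Ideal.mem_span_singleton_self _)
  let m := maximalIdeal R
  let mB : Ideal B := m.map (algebraMap R B)
  have hrad : mB ≤ J.radical := by
    refine Ideal.map_le_iff_le_comap.mpr fun a ha => ?_
    obtain ⟨N, c, hc⟩ := exists_pow_dvd ht0 ha
    refine ⟨N, ?_⟩
    rw [← map_pow, hc, map_mul]
    exact Ideal.mul_mem_right _ _ (Ideal.mem_span_singleton_self _)
  haveI : Nontrivial (B ⧸ mB) := Ideal.Quotient.nontrivial_iff.mpr fun h => hnu <| by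
    have h1 : J.radical = ⊤ := top_le_iff.mp (h ▸ hrad)
    exact Ideal.span_singleton_eq_top.mp (Ideal.radical_eq_top.mp h1)
  have hJm : J ≤ mB := (Ideal.span_singleton_le_iff_mem _).mpr
    (Ideal.mem_map_of_mem _ t_mem_maximalIdeal)
  haveI : Algebra.FiniteType R (B ⧸ mB) :=
    Algebra.FiniteType.of_surjective (Ideal.Quotient.factorₐ R hJm) (Ideal.Quotient.factor_surjective hJm)
  letI := Ideal.Quotient.field m
  haveI : Algebra.FiniteType (R ⧸ m) (B ⧸ mB) := Algebra.FiniteType.of_restrictScalars_finiteType R _ _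
  obtain ⟨s, g, hg, hgint⟩ := exists_integral_inj_algHom_of_fg (R ⧸ m) (B ⧸ mB)
  choose y hy using fun i => Ideal.Quotient.mk_surjective (g (MvPolynomial.X i))
  let g₀ : MvPolynomial (Fin s) R →ₐ[R] B := MvPolynomial.aeval y
  have hkey : (Ideal.Quotient.mk mB).comp g₀.toRingHom =
      g.toRingHom.comp (MvPolynomial.map (Ideal.Quotient.mk m)) := by
    refine MvPolynomial.ringHom_ext (fun r => ?_) (fun i => ?_)
    · change Ideal.Quotient.mk mB (MvPolynomial.aeval y (MvPolynomial.C r)) =
        g (MvPolynomial.map (Ideal.Quotient.mk m) (MvPolynomial.C r))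
      rw [MvPolynomial.aeval_C, MvPolynomial.map_C,
        show (MvPolynomial.C (Ideal.Quotient.mk m r) : MvPolynomial (Fin s) (R ⧸ m)) = algebraMap _ _ _ from rfl,
        g.commutes]
      rfl
    · change Ideal.Quotient.mk mB (MvPolynomial.aeval y (MvPolynomial.X i)) =
        g (MvPolynomial.map (Ideal.Quotient.mk m) (MvPolynomial.X i))
      rw [MvPolynomial.aeval_X, MvPolynomial.map_X, hy]
  obtain ⟨φ, hφ⟩ : ∃ φ : RPow R (Ideal.span {t}) s →ₐ[R] B,
      ∀ p, φ (algebraMap (MvPolynomial (Fin s) R) _ p) = g₀ p := H24Adic.exists_algHom _ g₀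
  letI : Algebra (RPow R (Ideal.span {t}) s) B := φ.toRingHom.toAlgebra
  haveI : IsScalarTower R (RPow R (Ideal.span {t}) s) B :=
    IsScalarTower.of_algebraMap_eq fun r => (φ.commutes r).symm
  -- `B` is finite over the restricted power series
  haveI := isAdicComplete_rPow (n := s) hbase
  haveI : IsAdicComplete ((Ideal.span {t}).map (algebraMap R (RPow R (Ideal.span {t}) s)))
      (RPow R (Ideal.span {t}) s) := (IsAdicComplete.map_algebraMap_iff _ _).2 inferInstance
  haveI : IsAdicComplete ((Ideal.span {t}).map (algebraMap R (RPow R (Ideal.span {t}) s))) B :=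
    (IsAdicComplete.map_algebraMap_iff _ _).2 inferInstance
  haveI : Module.Finite (RPow R (Ideal.span {t}) s) B := by
    haveI : Algebra.FiniteType (RPow R (Ideal.span {t}) s) (B ⧸ J) :=
      Algebra.FiniteType.of_restrictScalars_finiteType R _ _
    haveI : Algebra.IsIntegral (RPow R (Ideal.span {t}) s) (B ⧸ J) := ⟨fun z => by
      obtain ⟨b, rfl⟩ := Ideal.Quotient.mk_surjective z
      obtain ⟨q, hq, hq0⟩ := hgint (Ideal.Quotient.mk mB b)
      obtain ⟨p, hp, -, hpm⟩ := Polynomial.lifts_and_degree_eq_and_monic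
        ((Polynomial.lifts_iff_coeff_lifts (f := MvPolynomial.map (σ := Fin s) (Ideal.Quotient.mk m)) q).mpr
          fun i => MvPolynomial.map_surjective _ Ideal.Quotient.mk_surjective (q.coeff i)) hq
      have hmem : p.eval₂ g₀.toRingHom b ∈ mB := by
        rw [← Ideal.Quotient.eq_zero_iff_mem, Polynomial.hom_eval₂, hkey, ← Polynomial.eval₂_map, hp]
        exact hq0
      obtain ⟨N, hN⟩ := hrad hmem
      refine ⟨(p.map (algebraMap (MvPolynomial (Fin s) R) (RPow R (Ideal.span {t}) s))) ^ N,
        (hpm.map _).pow N, ?_⟩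
      rw [Polynomial.eval₂_pow, Polynomial.eval₂_map]
      have hc : (algebraMap (RPow R (Ideal.span {t}) s) (B ⧸ J)).comp
          (algebraMap (MvPolynomial (Fin s) R) (RPow R (Ideal.span {t}) s)) =
          (Ideal.Quotient.mk J).comp g₀.toRingHom :=
        RingHom.ext fun x => congrArg (Ideal.Quotient.mk J) (hφ x)
      rw [hc, ← Polynomial.hom_eval₂, ← map_pow]
      exact Ideal.Quotient.eq_zero_iff_mem.mpr hN⟩
    haveI : Module.Finite (RPow R (Ideal.span {t}) s) (B ⧸ J) := Algebra.IsIntegral.finite
    have hJ : J.restrictScalars (RPow R (Ideal.span {t}) s) =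
        ((Ideal.span {t}).map (algebraMap R (RPow R (Ideal.span {t}) s)) • ⊤ :
          Submodule (RPow R (Ideal.span {t}) s) B) := by
      refine Eq.trans ?_ (Ideal.smul_top_eq_map _).symm
      refine congrArg (Submodule.restrictScalars (RPow R (Ideal.span {t}) s)) (Eq.symm ?_)
      refine (Ideal.map_map _ _).trans ((congrArg (fun f => (Ideal.span {t}).map f)
        (IsScalarTower.algebraMap_eq R (RPow R (Ideal.span {t}) s) B).symm).trans ?_)
      exact (Ideal.map_span _ _).trans (congrArg Ideal.span Set.image_singleton)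
    haveI : Module.Finite (RPow R (Ideal.span {t}) s) (B ⧸ ((Ideal.span {t}).map
        (algebraMap R (RPow R (Ideal.span {t}) s)) • ⊤ : Submodule (RPow R (Ideal.span {t}) s) B)) :=
      Module.Finite.equiv ((Submodule.Quotient.restrictScalarsEquiv (RPow R (Ideal.span {t}) s) J).symm.trans
        (Submodule.quotEquivOfEq _ _ hJ))
    exact H24Adic.finite_of_finite_quotient ((Ideal.span {t}).map (algebraMap R (RPow R (Ideal.span {t}) s)))
  have hs : s = 0 := by
    by_contra hs
    let i₀ : Fin s := ⟨0, Nat.pos_of_ne_zero hs⟩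
    let q : Ideal (RPow R (Ideal.span {t}) s) := RingHom.ker φ.toRingHom
    have hqfg : q.FG := fg_of_saturated hbase q fun x k hx => hT (φ x) k fun a ha => by
      rw [← map_smul]; exact hx a ha
    have happ : ∀ x ∈ q, ∃ (p : MvPolynomial (Fin s) R) (w : RPow R (Ideal.span {t}) s),
        x - algebraMap _ _ p = t • w ∧ ∀ d, p.coeff d ∈ m := by
      intro x hx
      obtain ⟨p, w, hp⟩ := exists_poly_approx x 1
      rw [pow_one] at hp
      refine ⟨p, w, hp, ?_⟩
      have h0 : Ideal.Quotient.mk mB (g₀ p) = 0 := by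
        refine Ideal.Quotient.eq_zero_iff_mem.mpr ?_
        have h1 := congrArg φ hp
        rw [map_sub, show φ x = 0 from hx, zero_sub, hφ, map_smul, neg_eq_iff_eq_neg] at h1
        rw [h1, Algebra.smul_def]
        exact neg_mem (Ideal.mul_mem_right _ _ (Ideal.mem_map_of_mem _ t_mem_maximalIdeal))
      have h2 : MvPolynomial.map (Ideal.Quotient.mk m) p = 0 :=
        (injective_iff_map_eq_zero g).mp hg _ ((RingHom.congr_fun hkey p).symm.trans h0)
      intro d
      rw [← Ideal.Quotient.eq_zero_iff_mem, ← MvPolynomial.coeff_map, h2, MvPolynomial.coeff_zero]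
    obtain ⟨T, hT'⟩ := hqfg
    choose p w hpw hpm using happ
    let S : Finset R := insert t ((T.attach.filter fun x => x.1 ∈ q).biUnion fun x =>
      if h : x.1 ∈ q then (p x.1 h).support.image (p x.1 h).coeff else ∅)
    obtain ⟨e, heS, he⟩ := exists_dvd_all S ⟨t, Finset.mem_insert_self _ _⟩
    have he0 : e ≠ 0 := fun h => ht0 (zero_dvd_iff.mp (h ▸ he t (Finset.mem_insert_self _ _)))
    have hem : e ∈ m := by
      rcases Finset.mem_insert.mp heS with rfl | h
      · exact t_mem_maximalIdeal
      · obtain ⟨x, hx, hxe⟩ := Finset.mem_biUnion.mp h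
        rw [dif_pos (Finset.mem_filter.mp hx).2] at hxe
        obtain ⟨d, -, rfl⟩ := Finset.mem_image.mp hxe
        exact hpm _ _ d
    let E : Ideal (RPow R (Ideal.span {t}) s) := Ideal.span {algebraMap R _ e}
    have hqE : q ≤ E := by
      rw [← hT']
      refine Submodule.span_le.mpr fun x hx => ?_
      have hxq : x ∈ q := hT' ▸ Submodule.subset_span hx
      have hdvd : MvPolynomial.C e ∣ p x hxq := by
        refine MvPolynomial.C_dvd_iff_dvd_coeff _ _ |>.mpr fun d => ?_
        by_cases hd : d ∈ (p x hxq).support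
        · refine he _ (Finset.mem_insert_of_mem (Finset.mem_biUnion.mpr ⟨⟨x, hx⟩, ?_, ?_⟩))
          · exact Finset.mem_filter.mpr ⟨Finset.mem_attach _ _, hxq⟩
          · rw [dif_pos hxq]; exact Finset.mem_image_of_mem _ hd
        · rw [MvPolynomial.notMem_support_iff.mp hd]; exact dvd_zero e
      rw [SetLike.mem_coe, show x = algebraMap _ _ (p x hxq) + t • w x hxq from eq_add_of_sub_eq' (hpw x hxq)]
      refine add_mem ?_ ?_
      · obtain ⟨r, hr⟩ := hdvd
        rw [hr, map_mul, show algebraMap (MvPolynomial (Fin s) R) (RPow R (Ideal.span {t}) s)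
          (MvPolynomial.C e) = algebraMap R _ e from (IsScalarTower.algebraMap_apply R (MvPolynomial (Fin s) R) _ e).symm]
        exact Ideal.mul_mem_right _ _ (Ideal.mem_span_singleton_self _)
      · obtain ⟨c, hc⟩ := he t (Finset.mem_insert_self _ _)
        rw [Algebra.smul_def, show algebraMap R (RPow R (Ideal.span {t}) s) t = algebraMap R _ e * algebraMap R _ c from
          (congrArg _ hc).trans (map_mul _ _ _), mul_assoc]
        exact Ideal.mul_mem_right _ _ (Ideal.mem_span_singleton_self _)
    have hq : q = ⊥ := by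
      refine Submodule.eq_bot_of_le_smul_of_le_jacobson_bot E q ⟨T, hT'⟩ (fun x hx => ?_) ?_
      · obtain ⟨z, rfl⟩ := Ideal.mem_span_singleton'.mp (hqE hx)
        rw [mul_comm, smul_eq_mul]
        refine Ideal.mul_mem_mul (Ideal.mem_span_singleton_self _) ?_
        have hx' : φ (z * algebraMap R _ e) = 0 := hx
        rw [map_mul, φ.commutes, mul_eq_zero] at hx'
        exact hx'.resolve_right fun h => he0 (hinjR (h.trans (map_zero _).symm))
      · rw [Ideal.span_singleton_le_iff_mem]
        obtain ⟨N, c, hc⟩ := exists_pow_dvd ht0 hem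
        refine (show ((Ideal.span {t}).map (algebraMap R (RPow R (Ideal.span {t}) s))).radical ≤
          Ideal.jacobson ⊥ from ?_) ⟨N, ?_⟩
        · refine Ideal.radical_le_jacobson.trans ((Ideal.jacobson_mono ?_).trans Ideal.jacobson_idem.le)
          exact IsAdicComplete.le_jacobson_bot _
        · rw [← map_pow, hc, map_mul]
          exact Ideal.mul_mem_right _ _ (Ideal.mem_map_of_mem _ (Ideal.mem_span_singleton_self t))
    let X₀ : RPow R (Ideal.span {t}) s := algebraMap (MvPolynomial (Fin s) R) _ (MvPolynomial.X i₀)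
    obtain ⟨ε, hε⟩ : ∃ ε : RPow R (Ideal.span {t}) s →ₐ[R] R,
        ∀ p, ε (algebraMap (MvPolynomial (Fin s) R) _ p) = MvPolynomial.aeval (fun _ => (0 : R)) p := by
      haveI : IsAdicComplete ((Ideal.span {t}).map (algebraMap R R)) R := by
        rw [Algebra.algebraMap_self, Ideal.map_id]; infer_instance
      exact H24Adic.exists_algHom _ (MvPolynomial.aeval fun _ => (0 : R))
    have hεX : ε X₀ = 0 := by rw [hε, MvPolynomial.aeval_X]
    have hφinj : Function.Injective φ := (injective_iff_map_eq_zero φ).mpr fun x hx => by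
      rw [← Ideal.mem_bot, ← hq]; exact hx
    have hu : φ X₀ ≠ 0 := fun h => by
      have h1 := hφinj (h.trans (map_zero φ).symm)
      have h2 : (algebraMap (MvPolynomial (Fin s) R) (RPow R (Ideal.span {t}) s)) (MvPolynomial.X i₀) = 0 := h1
      obtain ⟨ε', hε'⟩ : ∃ ε' : RPow R (Ideal.span {t}) s →ₐ[R] R,
          ∀ p, ε' (algebraMap (MvPolynomial (Fin s) R) _ p) = MvPolynomial.aeval (fun _ => (1 : R)) p := by
        haveI : IsAdicComplete ((Ideal.span {t}).map (algebraMap R R)) R := by
          rw [Algebra.algebraMap_self, Ideal.map_id]; infer_instance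
        exact H24Adic.exists_algHom _ (MvPolynomial.aeval fun _ => (1 : R))
      have h3 := congrArg ε' h2
      rw [hε', MvPolynomial.aeval_X, map_zero] at h3
      exact one_ne_zero h3
    obtain ⟨N, b, hb⟩ := hfield _ hu
    obtain ⟨P, hP, hP0⟩ := Algebra.IsIntegral.isIntegral (R := RPow R (Ideal.span {t}) s) b
    have h1 := Polynomial.scaleRoots_aeval_eq_zero (a := b) (r := X₀) hP0
    rw [show algebraMap (RPow R (Ideal.span {t}) s) B X₀ * b = φ (algebraMap R _ t ^ N) from
      hb.trans (by rw [map_pow, φ.commutes])] at h1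
    rw [show φ (algebraMap R _ t ^ N) = algebraMap (RPow R (Ideal.span {t}) s) B (algebraMap R _ t ^ N) from rfl,
      Polynomial.aeval_algebraMap_apply] at h1
    have h2 : (P.scaleRoots X₀).eval (algebraMap R _ t ^ N) = 0 := by
      refine hφinj (Eq.trans ?_ (map_zero φ).symm)
      simp [Polynomial.aeval_def] at h1
      exact h1
    have h3 := congrArg ε.toRingHom h2
    rw [← Polynomial.eval₂_at_apply, ← Polynomial.eval_map, map_zero,
      Polynomial.map_scaleRoots _ _ _ (by rw [hP.leadingCoeff, map_one]; exact one_ne_zero),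
      show ε.toRingHom X₀ = 0 from hεX, Polynomial.scaleRoots_zero, (hP.map _).leadingCoeff, one_smul,
      Polynomial.eval_pow, Polynomial.eval_X, map_pow,
      show ε.toRingHom (algebraMap R _ t) = t from ε.commutes t, ← pow_mul] at h3
    exact pow_ne_zero _ ht0 h3
  subst hs
  haveI : Module.Finite R (RPow R (Ideal.span {t}) 0 ⧸
      (Ideal.span {t} • ⊤ : Submodule R (RPow R (Ideal.span {t}) 0))) := by
    refine Module.Finite.of_surjective ((Submodule.mkQ _).comp
      (Algebra.linearMap R (RPow R (Ideal.span {t}) 0))) fun z => ?_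
    obtain ⟨x, rfl⟩ := Submodule.mkQ_surjective _ z
    obtain ⟨p, w, hp⟩ := exists_poly_approx x 1
    rw [pow_one] at hp
    refine ⟨MvPolynomial.constantCoeff p, (Submodule.Quotient.eq _).mpr ?_⟩
    rw [← neg_mem_iff, neg_sub, Algebra.linearMap_apply,
      IsScalarTower.algebraMap_apply R (MvPolynomial (Fin 0) R) (RPow R (Ideal.span {t}) 0),
      show algebraMap R (MvPolynomial (Fin 0) R) (MvPolynomial.constantCoeff p) = p from
        (MvPolynomial.eq_C_of_isEmpty p).symm, hp]
    exact Submodule.smul_mem_smul (Ideal.mem_span_singleton_self t) trivial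
  haveI : Module.Finite R (RPow R (Ideal.span {t}) 0) := H24Adic.finite_of_finite_quotient (Ideal.span {t})
  exact Module.Finite.trans (RPow R (Ideal.span {t}) 0) B

end Groth.Agent.H24Val
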