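import Groth.Agent.H24Val.TopFinite
import Mathlib.Algebra.Module.FinitePresentation

/-!
Transfer to algebras topologically of finite type.
-/

universe u v

namespace Groth.Agent.H24Val

open AdicRing

variable {R : Type u} [CommRing R] {I : Ideal R} {A : Type u} [CommRing A] [Algebra R A]
variable (M : Type v) [AddCommGroup M] [Module A M] [Module R M] [IsScalarTower R A M]

theorem exists_structure (hA : TopFiniteType R I A) [Module.Finite A M] :
    ∃ (n : ℕ) (_ : Algebra (RPow R I n) A) (_ : Module (RPow R I n) M),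
      IsScalarTower R (RPow R I n) A ∧ IsScalarTower (RPow R I n) A M ∧
      IsScalarTower R (RPow R I n) M ∧ Module.Finite (RPow R I n) M ∧
      Function.Surjective (algebraMap (RPow R I n) A) := by
  obtain ⟨n, φ, hφ⟩ := hA
  letI : Algebra (RPow R I n) A := φ.toRingHom.toAlgebra
  haveI h1 : IsScalarTower R (RPow R I n) A := IsScalarTower.of_algebraMap_eq fun r => (φ.commutes r).symm
  letI : Module (RPow R I n) M := Module.compHom M φ.toRingHom
  haveI h2 : IsScalarTower (RPow R I n) A M := IsScalarTower.of_algebraMap_smul fun _ _ => rfl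
  haveI h3 : IsScalarTower R (RPow R I n) M := IsScalarTower.of_algebraMap_smul fun r x => by
    change φ (algebraMap R (RPow R I n) r) • x = r • x
    rw [φ.commutes, algebraMap_smul]
  haveI h4 : Module.Finite (RPow R I n) A :=
    Module.Finite.of_surjective (Algebra.linearMap (RPow R I n) A) hφ
  exact ⟨n, inferInstance, inferInstance, h1, h2, h3, Module.Finite.trans A M, hφ⟩

variable {M}

theorem fg_of_saturated_topFinite (hR : IsBase R I) (hA : TopFiniteType R I A) [Module.Finite A M]
    (N : Submodule A M) (hsat : ∀ (x : M) (m : ℕ), (∀ a ∈ I ^ m, a • x ∈ N) → x ∈ N) : N.FG := by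
  obtain ⟨n, _, _, _, _, _, _, hs⟩ := exists_structure M hA
  have h := fg_of_saturated hR (N.restrictScalars (RPow R I n)) hsat
  exact Submodule.FG.of_restrictScalars _ h

theorem isAdicComplete_topFinite (hR : IsBase R I) (hA : TopFiniteType R I A) [Module.Finite A M] :
    IsAdicComplete I M := by
  obtain ⟨n, _, _, _, _, _, _, _⟩ := exists_structure M hA
  exact isAdicComplete_of_finite_rPow (n := n) hR

theorem exists_artinRees_topFinite (hR : IsBase R I) (hA : TopFiniteType R I A) [Module.Finite A M]
    (N : Submodule A M) :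
    ∃ n₀ : ℕ, ∀ m : ℕ, (I ^ (m + n₀) • (⊤ : Submodule R M)) ⊓ N.restrictScalars R ≤
      I ^ m • N.restrictScalars R := by
  obtain ⟨n, _, _, _, _, _, _, _⟩ := exists_structure M hA
  exact exists_artinRees hR (N.restrictScalars (RPow R I n))

theorem finitePresentation_of_noPowTorsion (hR : IsBase R I) (hA : TopFiniteType R I A)
    [Module.Finite A M] (hM : ∀ (x : M) (m : ℕ), (∀ a ∈ I ^ m, a • x = 0) → x = 0) :
    Module.FinitePresentation A M := by
  obtain ⟨s, ψ, hψ⟩ := Module.Finite.exists_fin' A M
  refine Module.finitePresentation_of_surjective ψ hψ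
    (fg_of_saturated_topFinite hR hA _ fun x m hx => LinearMap.mem_ker.mpr (hM _ m fun a ha => ?_))
  rw [← LinearMap.map_smul_of_tower]
  exact hx a ha

theorem noPowTorsion_of_flat (hR : IsBase R I) [IsDomain R] [Module.Flat R M] (x : M) (m : ℕ)
    (hx : ∀ a ∈ I ^ m, a • x = 0) (hI : I ≠ ⊥) : x = 0 := by
  obtain ⟨a, ha, ha0⟩ := Submodule.exists_mem_ne_zero_of_ne_bot (pow_ne_zero m hI)
  exact (Module.Flat.isSMulRegular_of_nonZeroDivisors (mem_nonZeroDivisors_of_ne_zero ha0))
    (by simpa using hx a ha)

end Groth.Agent.H24Val
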