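import Groth.Agent.H24Val.Surj

/-!
Finite algebras over algebras topologically of finite type.
-/

universe u

set_option linter.style.haveILetI false

namespace Groth.Agent.H24Val

open AdicRing

variable {R : Type u} [CommRing R] {I : Ideal R} {A : Type u} [CommRing A] [Algebra R A]

theorem topFiniteType_of_finite (hR : IsBase R I) (hA : TopFiniteType R I A) (B : Type u) [CommRing B]
    [Algebra R B] [Algebra A B] [IsScalarTower R A B] [Module.Finite A B] : TopFiniteType R I B := by
  classical
  haveI : IsAdicComplete (I.map (algebraMap R B)) B :=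
    (IsAdicComplete.map_algebraMap_iff _ _).2 (isAdicComplete_topFinite (A := A) (M := B) hR hA)
  obtain ⟨n, φ, hφ⟩ := hA
  obtain ⟨l, b, hb⟩ := Module.Finite.exists_fin (R := A) (M := B)
  let π : RPow R I n →ₐ[R] B := (IsScalarTower.toAlgHom R A B).comp φ
  let y : Fin (n + l) → B :=
    Fin.append (fun i => π (algebraMap (MvPolynomial (Fin n) R) _ (MvPolynomial.X i))) b
  have hI := fg_of_isBase hR
  obtain ⟨ψ, hψ, -⟩ := exists_surjective hI (MvPolynomial.aeval y) fun z => by
    obtain ⟨c, rfl⟩ := (Submodule.mem_span_range_iff_exists_fun A).mp (hb ▸ Submodule.mem_top : z ∈ Submodule.span A (Set.range b))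
    have hc : ∀ j, ∃ p : MvPolynomial (Fin n) R,
        algebraMap A B (c j) - MvPolynomial.aeval y (MvPolynomial.rename (Fin.castAdd l) p) ∈
          I.map (algebraMap R B) := by
      intro j
      obtain ⟨x, hx⟩ := hφ (c j)
      obtain ⟨p, hp⟩ := H24Adic.exists_sub_of_mem (hI.map (MvPolynomial.C : R →+* MvPolynomial (Fin n) R)) 1 x
      refine ⟨p, ?_⟩
      have h1 : MvPolynomial.aeval y (MvPolynomial.rename (Fin.castAdd l) p) = π (algebraMap _ _ p) := by
        rw [MvPolynomial.aeval_rename]
        change MvPolynomial.aeval (y ∘ Fin.castAdd l) p =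
          (π.comp (IsScalarTower.toAlgHom R (MvPolynomial (Fin n) R) (RPow R I n))) p
        congr 1
        refine MvPolynomial.algHom_ext fun i => ?_
        rw [MvPolynomial.aeval_X]
        exact Fin.append_left _ _ i
      rw [pow_one] at hp
      have h := Ideal.mem_map_of_mem π.toRingHom hp
      rw [Ideal.map_map, Ideal.map_map] at h
      rw [h1, ← hx, show algebraMap A B (φ x) = π x from rfl, ← map_sub]
      exact (le_of_eq (congrArg (fun g : R →+* B => I.map g) (RingHom.ext fun r => π.commutes r))) h
    choose p hp using hc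
    refine ⟨∑ j, MvPolynomial.rename (Fin.castAdd l) (p j) * MvPolynomial.X (Fin.natAdd n j), ?_⟩
    rw [map_sum, ← Finset.sum_sub_distrib]
    refine Submodule.sum_mem _ fun j _ => ?_
    rw [map_mul, MvPolynomial.aeval_X, show y (Fin.natAdd n j) = b j from Fin.append_right _ _ j,
      Algebra.smul_def, ← sub_mul]
    exact Ideal.mul_mem_right _ _ (hp j)
  exact ⟨_, ψ, hψ⟩

end Groth.Agent.H24Val
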