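import Groth.Agent.H24Val.CLocFlat
import Groth.Agent.H24Val.FiniteTop
import Mathlib.RingTheory.FinitePresentation
import Mathlib.RingTheory.RingHom.FinitePresentation
import Mathlib.RingTheory.RingHom.FiniteType
import Mathlib.RingTheory.Localization.Ideal
import Mathlib.RingTheory.Flat.FaithfullyFlat.Algebra

/-!
Topological finite presentation is seen on truncations and is local.
-/

universe u v

open TensorProduct

set_option linter.style.haveILetI false

namespace Groth.Agent.H24Val

open AdicRing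

theorem ker_evalₐ {S : Type v} [CommRing S] {J : Ideal S} (hJ : J.FG) (m : ℕ) :
    RingHom.ker (AdicCompletion.evalₐ J m) = (J ^ m).map (algebraMap S (AdicCompletion J S)) := by
  have h0 : ∀ z ∈ (J ^ m).map (algebraMap S (AdicCompletion J S)), AdicCompletion.evalₐ J m z = 0 := by
    intro z hz
    refine (Ideal.map_le_iff_le_comap (K := RingHom.ker (AdicCompletion.evalₐ J m))).mpr (fun a ha => ?_) hz
    rw [Ideal.mem_comap, RingHom.mem_ker, AlgHom.commutes]
    exact Ideal.Quotient.eq_zero_iff_mem.mpr ha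
  refine le_antisymm (fun x hx => ?_) h0
  obtain ⟨a, ha⟩ := H24Adic.exists_sub_of_mem hJ m x
  have h1 := h0 _ ha
  rw [map_sub, show AdicCompletion.evalₐ J m x = 0 from hx, AlgHom.commutes, zero_sub, neg_eq_zero] at h1
  have h2 := add_mem ha (Ideal.mem_map_of_mem (algebraMap S (AdicCompletion J S))
    (Ideal.Quotient.eq_zero_iff_mem.mp h1))
  rwa [sub_add_cancel] at h2

variable {R : Type u} [CommRing R] {I : Ideal R} {A : Type u} [CommRing A] [Algebra R A]

section Forward

variable {n : ℕ}

theorem map_J_pow_eq (m : ℕ) : ((I.map (MvPolynomial.C : R →+* MvPolynomial (Fin n) R)) ^ m).map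
      (algebraMap (MvPolynomial (Fin n) R) (RPow R I n)) = (I ^ m).map (algebraMap R (RPow R I n)) := by
  rw [← Ideal.map_pow, Ideal.map_map]
  rfl

/-- The composite of a surjection from restricted power series with reduction modulo `I ^ m`. -/
theorem exists_trunc_presentation (hI : I.FG) (φ : RPow R I n →ₐ[R] A) (hφ : Function.Surjective φ) (m : ℕ) :
    ∃ θ : MvPolynomial (Fin n) R →ₐ[R] A ⧸ (I ^ m).map (algebraMap R A), Function.Surjective θ ∧
      (∀ p, θ p = Ideal.Quotient.mk _ (φ (algebraMap _ _ p))) ∧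
      ((RingHom.ker φ.toRingHom).FG → (RingHom.ker θ.toRingHom).FG) := by
  classical
  let J := I.map (MvPolynomial.C : R →+* MvPolynomial (Fin n) R)
  let θ : MvPolynomial (Fin n) R →ₐ[R] A ⧸ (I ^ m).map (algebraMap R A) :=
    (Ideal.Quotient.mkₐ R _).comp (φ.comp (IsScalarTower.toAlgHom R (MvPolynomial (Fin n) R) (RPow R I n)))
  have hmapφ : ((I ^ m).map (algebraMap R (RPow R I n))).map φ.toRingHom = (I ^ m).map (algebraMap R A) := by
    rw [Ideal.map_map]
    congr 1
    exact RingHom.ext fun r => φ.commutes r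
  have hmod : ∀ x : RPow R I n, ∃ p : MvPolynomial (Fin n) R,
      x - algebraMap _ _ p ∈ (I ^ m).map (algebraMap R (RPow R I n)) := fun x => by
    obtain ⟨p, hp⟩ := H24Adic.exists_sub_of_mem (hI.map _) m x
    exact ⟨p, (map_J_pow_eq (I := I) (n := n) m) ▸ hp⟩
  refine ⟨θ, fun z => ?_, fun p => rfl, fun hK => ?_⟩
  · obtain ⟨a, rfl⟩ := Ideal.Quotient.mk_surjective z
    obtain ⟨x, rfl⟩ := hφ a
    obtain ⟨p, hp⟩ := hmod x
    refine ⟨p, (Ideal.Quotient.eq.mpr ?_).symm⟩
    change φ x - φ (algebraMap _ _ p) ∈ _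
    rw [← map_sub, ← hmapφ]
    exact Ideal.mem_map_of_mem φ.toRingHom hp
  · obtain ⟨T, hT⟩ := hK
    choose p hp using hmod
    let S : Ideal (MvPolynomial (Fin n) R) := Ideal.span (T.image p : Finset _) ⊔ J ^ m
    suffices RingHom.ker θ.toRingHom = S by
      rw [this]
      exact Submodule.FG.sup (Submodule.fg_span (Finset.finite_toSet _)) (Ideal.FG.pow (show J.FG from hI.map _))
    refine le_antisymm (fun q hq => ?_) (sup_le (Ideal.span_le.mpr ?_) ?_)
    · have h1 : φ (algebraMap _ _ q) ∈ (I ^ m).map (algebraMap R A) := Ideal.Quotient.eq_zero_iff_mem.mp hq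
      rw [← hmapφ, Ideal.mem_map_iff_of_surjective φ.toRingHom hφ] at h1
      obtain ⟨w, hw, hwq⟩ := h1
      have hk : algebraMap _ _ q - w ∈ RingHom.ker φ.toRingHom := by
        rw [RingHom.mem_ker, map_sub, hwq, AlgHom.toRingHom_eq_coe, RingHom.coe_coe, sub_self]
      rw [← hT] at hk
      have key : ∀ x : RPow R I n, ∀ a : MvPolynomial (Fin n) R,
          x - algebraMap _ _ a ∈ (I ^ m).map (algebraMap R (RPow R I n)) →
          AdicCompletion.evalₐ J m x = Ideal.Quotient.mk _ a := by
        intro x a hxa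
        rw [← map_J_pow_eq, ← ker_evalₐ (hI.map _), RingHom.mem_ker, map_sub, sub_eq_zero] at hxa
        rw [hxa, AlgHom.commutes]
        rfl
      have h2 : Ideal.Quotient.mk (J ^ m) q ∈
          (Ideal.span (T.image p : Finset _)).map (Ideal.Quotient.mk (J ^ m)) := by
        have h3 := Ideal.mem_map_of_mem (AdicCompletion.evalₐ J m).toRingHom hk
        rw [Ideal.map_span] at h3
        rw [Ideal.map_span]
        have h4 : (AdicCompletion.evalₐ J m).toRingHom (algebraMap _ (RPow R I n) q - w) = Ideal.Quotient.mk _ q :=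
          key _ q (by rw [sub_right_comm, sub_self, zero_sub]; exact neg_mem hw)
        rw [h4] at h3
        refine Ideal.span_mono ?_ h3
        rintro _ ⟨x, hx, rfl⟩
        exact ⟨p x, Finset.mem_coe.mpr (Finset.mem_image_of_mem p hx), (key x (p x) (hp x)).symm⟩
      rw [Ideal.mem_map_iff_of_surjective _ Ideal.Quotient.mk_surjective] at h2
      obtain ⟨r, hr, hrq⟩ := h2
      rw [show q = r + (q - r) by ring]
      exact Submodule.add_mem_sup hr (Ideal.Quotient.eq.mp hrq.symm)
    · intro x hx
      rw [Finset.coe_image] at hx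
      obtain ⟨y, hy, rfl⟩ := hx
      refine Ideal.Quotient.eq_zero_iff_mem.mpr ?_
      rw [← hmapφ]
      have hy0 : φ.toRingHom y = 0 := RingHom.mem_ker.mp (hT ▸ Submodule.subset_span hy)
      have h := Ideal.mem_map_of_mem φ.toRingHom (hp y)
      rw [map_sub, hy0, zero_sub, neg_mem_iff] at h
      exact h
    · intro x hx
      refine Ideal.Quotient.eq_zero_iff_mem.mpr ?_
      rw [← hmapφ, ← map_J_pow_eq]
      exact Ideal.mem_map_of_mem φ.toRingHom (Ideal.mem_map_of_mem _ hx)

theorem finitePresentation_trunc (hI : I.FG) (hA : TopFinitePresentation R I A) (m : ℕ) :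
    Algebra.FinitePresentation R (A ⧸ (I ^ m).map (algebraMap R A)) := by
  obtain ⟨l, φ, hφ, hK⟩ := hA
  obtain ⟨θ, hθ, -, hθK⟩ := exists_trunc_presentation hI φ hφ m
  exact Algebra.FinitePresentation.of_surjective hθ (hθK hK)

theorem finiteType_trunc (hI : I.FG) (hA : TopFiniteType R I A) (m : ℕ) :
    Algebra.FiniteType R (A ⧸ (I ^ m).map (algebraMap R A)) := by
  obtain ⟨l, φ, hφ⟩ := hA
  obtain ⟨θ, hθ, -, -⟩ := exists_trunc_presentation hI φ hφ m
  exact Algebra.FiniteType.of_surjective θ hθ

end Forward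

theorem topFiniteType_of_finiteType_trunc (hI : I.FG) [IsAdicComplete (I.map (algebraMap R A)) A]
    (h : Algebra.FiniteType R (A ⧸ (I ^ 1).map (algebraMap R A))) : TopFiniteType R I A := by
  obtain ⟨l, θ, hθ⟩ := Algebra.FiniteType.iff_quotient_mvPolynomial''.mp h
  choose y hy using fun i => Ideal.Quotient.mk_surjective (θ (MvPolynomial.X i))
  obtain ⟨φ, hφ, -⟩ := exists_surjective hI (MvPolynomial.aeval y) fun b => by
    obtain ⟨p, hp⟩ := hθ (Ideal.Quotient.mk _ b)
    refine ⟨p, ?_⟩
    have h2 : θ = (Ideal.Quotient.mkₐ R ((I ^ 1).map (algebraMap R A))).comp (MvPolynomial.aeval y) :=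
      MvPolynomial.algHom_ext fun i => by
        rw [AlgHom.comp_apply, MvPolynomial.aeval_X, Ideal.Quotient.mkₐ_eq_mk, hy]
    rw [h2] at hp
    have h3 := Ideal.Quotient.eq.mp hp.symm
    rwa [pow_one] at h3
  exact ⟨l, φ, hφ⟩

theorem topFinitePresentation_of_trunc (hR : IsBase R I) [IsAdicComplete (I.map (algebraMap R A)) A]
    (h : ∀ m : ℕ, Algebra.FinitePresentation R (A ⧸ (I ^ (m + 1)).map (algebraMap R A))) :
    TopFinitePresentation R I A := by
  classical
  haveI := h 0
  obtain ⟨l, φ, hφ⟩ := topFiniteType_of_finiteType_trunc (A := A) (fg_of_isBase hR) inferInstance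
  refine ⟨l, φ, hφ, ?_⟩
  rcases hR with ⟨hc, ⟨hN, -⟩ | ⟨hdom, hpre, hdim, t, ht0, rfl⟩⟩
  · haveI := isNoetherianRing_rPow (R := R) (I := I) (n := l)
    exact IsNoetherian.noetherian _
  · haveI := isLocalRing_of_pre R
    have hI : (Ideal.span {t}).FG := Submodule.fg_span_singleton t
    let K : Submodule (RPow R (Ideal.span {t}) l) (RPow R (Ideal.span {t}) l) := RingHom.ker φ.toRingHom
    obtain ⟨hsat, n₀, hn₀⟩ := exists_uniform ht0 K
    obtain ⟨θ, hθ, hθp, -⟩ := exists_trunc_presentation hI φ hφ (n₀ + 1)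
    haveI := h n₀
    obtain ⟨T, hT⟩ := Algebra.FinitePresentation.ker_fG_of_surjective θ hθ
    have hlift : ∀ p ∈ T, ∃ w : RPow R (Ideal.span {t}) l, algebraMap _ _ p - t ^ (n₀ + 1) • w ∈ K := by
      intro p hp
      have h1 : θ p = 0 := RingHom.mem_ker.mp (hT ▸ Submodule.subset_span hp : p ∈ RingHom.ker θ.toRingHom)
      rw [hθp, Ideal.Quotient.eq_zero_iff_mem, Ideal.span_singleton_pow, Ideal.map_span, Set.image_singleton,
        Ideal.mem_span_singleton'] at h1
      obtain ⟨a, ha⟩ := h1
      obtain ⟨w, rfl⟩ := hφ a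
      refine ⟨w, RingHom.mem_ker.mpr ?_⟩
      change φ (algebraMap _ _ p - t ^ (n₀ + 1) • w) = 0
      rw [map_sub, map_smul, Algebra.smul_def, ← ha, mul_comm, sub_self]
    choose w hw using hlift
    let f : RPow R (Ideal.span {t}) l →ₗ[RPow R (Ideal.span {t}) l] RPow R (Ideal.span {t}) l :=
      LinearMap.lsmul _ _ (algebraMap R _ t ^ n₀)
    let g : T → RPow R (Ideal.span {t}) l := fun p => algebraMap _ _ p.1 - t ^ (n₀ + 1) • w p.1 p.2
    let K₀ : Submodule (RPow R (Ideal.span {t}) l) (RPow R (Ideal.span {t}) l) :=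
      Submodule.span _ (Set.range g)
    suffices K = K₀ ⊔ (saturation K).map f by
      change K.FG
      rw [this]
      exact Submodule.FG.sup (Submodule.fg_span (Set.finite_range g)) (hsat.map f)
    have hK₀ : K₀ ≤ K := Submodule.span_le.mpr (by
      rintro _ ⟨p, rfl⟩
      exact hw _ _)
    refine le_antisymm (fun x hx => ?_) (sup_le hK₀ ?_)
    · obtain ⟨q, y, hq⟩ := exists_poly_approx x (n₀ + 1)
      have h1 : q ∈ RingHom.ker θ.toRingHom := by
        refine RingHom.mem_ker.mpr ?_
        change θ q = 0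
        rw [hθp, Ideal.Quotient.eq_zero_iff_mem, show algebraMap _ (RPow R (Ideal.span {t}) l) q =
          x - t ^ (n₀ + 1) • y by rw [← hq, sub_sub_cancel], map_sub, show φ x = 0 from hx, zero_sub,
          map_smul, Algebra.smul_def, neg_mem_iff]
        exact Ideal.mul_mem_right _ _ (Ideal.mem_map_of_mem _
          (by rw [Ideal.span_singleton_pow]; exact Ideal.mem_span_singleton_self _))
      rw [← hT] at h1
      obtain ⟨c, hc⟩ := Submodule.mem_span_finset'.mp h1
      let κ : RPow R (Ideal.span {t}) l :=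
        ∑ p : T, (algebraMap _ (RPow R (Ideal.span {t}) l) (c p)) • g p
      have hκ : κ ∈ K₀ := Submodule.sum_mem _ fun p _ => Submodule.smul_mem _ _
        (Submodule.subset_span (Set.mem_range_self p))
      let z := y + ∑ p : T, algebraMap _ _ (c p) * w p.1 p.2
      have hxz : x - κ = t ^ (n₀ + 1) • z := by
        have h2 : algebraMap _ (RPow R (Ideal.span {t}) l) q =
            ∑ p : T, algebraMap _ _ (c p) * algebraMap _ _ p.1 := by
          rw [← hc, map_sum]
          simp [smul_eq_mul]
        simp only [κ, g, z, smul_eq_mul, mul_sub, Finset.sum_sub_distrib, mul_smul_comm, ← Finset.smul_sum, smul_add]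
        rw [← h2, ← hq]
        abel
      have hz : z ∈ saturation K := ⟨n₀ + 1, hxz ▸ sub_mem hx (hK₀ hκ)⟩
      rw [show x = κ + (x - κ) by ring, hxz]
      refine Submodule.add_mem_sup hκ ⟨algebraMap R (RPow R (Ideal.span {t}) l) t • z, (saturation K).smul_mem _ hz, ?_⟩
      change algebraMap R (RPow R (Ideal.span {t}) l) t ^ n₀ • (algebraMap R (RPow R (Ideal.span {t}) l) t • z) = t ^ (n₀ + 1) • z
      rw [← mul_smul, ← pow_succ, ← map_pow, algebraMap_smul]
    · rintro _ ⟨z, hz, rfl⟩
      change algebraMap R (RPow R (Ideal.span {t}) l) t ^ n₀ • z ∈ K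
      rw [← map_pow, algebraMap_smul]
      exact hn₀ z hz

/-- The truncation of a complete localization is the localization of the truncation. -/
theorem exists_truncEquiv (hI : I.FG) (f : A) (m : ℕ) :
    Nonempty (Localization.Away (Ideal.Quotient.mk ((I ^ m).map (algebraMap R A)) f) ≃ₐ[R]
      (CLoc I f ⧸ (I ^ m).map (algebraMap R (CLoc I f)))) := by
  let L := (I ^ m).map (algebraMap R A)
  let J := I.map (algebraMap R (Localization.Away f))
  haveI : IsLocalization.Away (Ideal.Quotient.mk L f)
      (Localization.Away f ⧸ L.map (algebraMap A (Localization.Away f))) := by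
    have h : Algebra.algebraMapSubmonoid (A ⧸ L) (Submonoid.powers f) =
        Submonoid.powers (Ideal.Quotient.mk L f) := Algebra.algebraMapSubmonoid_powers f
    rw [IsLocalization.Away, ← h]
    infer_instance
  haveI : IsScalarTower R (A ⧸ L) (Localization.Away f ⧸ L.map (algebraMap A (Localization.Away f))) :=
    IsScalarTower.of_algebraMap_eq fun r => by
      rw [IsScalarTower.algebraMap_apply R A (A ⧸ L), IsScalarTower.algebraMap_apply R A (Localization.Away f ⧸ _)]
      rfl
  have hJ : L.map (algebraMap A (Localization.Away f)) = J ^ m := by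
    rw [Ideal.map_map, ← IsScalarTower.algebraMap_eq, Ideal.map_pow]
  let e₁ := (IsLocalization.algEquiv (Submonoid.powers (Ideal.Quotient.mk L f))
    (Localization.Away (Ideal.Quotient.mk L f))
    (Localization.Away f ⧸ L.map (algebraMap A (Localization.Away f)))).restrictScalars R
  let e₂ := Ideal.quotientEquivAlgOfEq R hJ
  let e₃ := (Ideal.quotientKerAlgEquivOfSurjective (f := AdicCompletion.evalₐ J m)
    (AdicCompletion.surjective_evalₐ J m)).restrictScalars R
  have hker : (RingHom.ker (AdicCompletion.evalₐ J m) : Ideal (CLoc I f)) =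
      (I ^ m).map (algebraMap R (CLoc I f)) := by
    rw [ker_evalₐ (hI.map _), ← Ideal.map_pow, Ideal.map_map, ← IsScalarTower.algebraMap_eq]
  exact ⟨((e₁.trans e₂).trans e₃.symm).trans (Ideal.quotientEquivAlgOfEq R hker)⟩

theorem span_mk_range (m : ℕ) {r : ℕ} {f : Fin r → A} (hf : Ideal.span (Set.range f) = ⊤) :
    Ideal.span (Set.range fun i => Ideal.Quotient.mk ((I ^ m).map (algebraMap R A)) (f i)) = ⊤ := by
  rw [show (Set.range fun i => Ideal.Quotient.mk ((I ^ m).map (algebraMap R A)) (f i)) =
    Ideal.Quotient.mk ((I ^ m).map (algebraMap R A)) '' Set.range f from (Set.range_comp _ f),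
    ← Ideal.map_span, hf, Ideal.map_top]

theorem isAdicComplete_cLoc (hI : I.FG) (f : A) :
    IsAdicComplete (I.map (algebraMap R (CLoc I f))) (CLoc I f) :=
  haveI := isAdicComplete_completion (P := Localization.Away f) hI
  (IsAdicComplete.map_algebraMap_iff _ _).2 inferInstance

theorem topFiniteType_iff_cLoc (hR : IsBase R I) [IsAdicComplete (I.map (algebraMap R A)) A]
    {r : ℕ} {f : Fin r → A} (hf : Ideal.span (Set.range f) = ⊤) :
    TopFiniteType R I A ↔ ∀ i, TopFiniteType R I (CLoc I (f i)) := by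
  have hI := fg_of_isBase hR
  refine ⟨fun h i => topFiniteType_cLoc hR h (f i), fun h => ?_⟩
  refine topFiniteType_of_finiteType_trunc hI
    (Algebra.FiniteType.of_span_eq_top_target _ (span_mk_range 1 hf) ?_)
  rintro _ ⟨i, rfl⟩
  haveI := finiteType_trunc hI (h i) 1
  obtain ⟨e⟩ := exists_truncEquiv hI (f i) 1
  exact Algebra.FiniteType.equiv inferInstance e.symm

theorem topFinitePresentation_iff_cLoc (hR : IsBase R I) [IsAdicComplete (I.map (algebraMap R A)) A]
    {r : ℕ} {f : Fin r → A} (hf : Ideal.span (Set.range f) = ⊤) :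
    TopFinitePresentation R I A ↔ ∀ i, TopFinitePresentation R I (CLoc I (f i)) := by
  have hI := fg_of_isBase hR
  constructor
  · intro h i
    haveI := isAdicComplete_cLoc hI (f i)
    refine topFinitePresentation_of_trunc hR fun m => ?_
    haveI := finitePresentation_trunc hI h (m + 1)
    obtain ⟨e⟩ := exists_truncEquiv hI (f i) (m + 1)
    haveI : Algebra.FinitePresentation R
        (Localization.Away (Ideal.Quotient.mk ((I ^ (m + 1)).map (algebraMap R A)) (f i))) :=
      Algebra.FinitePresentation.trans R (A ⧸ (I ^ (m + 1)).map (algebraMap R A)) _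
    exact Algebra.FinitePresentation.equiv e
  · intro h
    refine topFinitePresentation_of_trunc hR fun m => ?_
    refine Algebra.FinitePresentation.of_span_eq_top_target _ (span_mk_range (m + 1) hf) ?_
    rintro _ ⟨i, rfl⟩
    haveI := finitePresentation_trunc hI (h i) (m + 1)
    obtain ⟨e⟩ := exists_truncEquiv hI (f i) (m + 1)
    exact Algebra.FinitePresentation.equiv e.symm

end Groth.Agent.H24Val
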