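import Groth.Agent.H24Val.Transfer
import Groth.Agent.H7Flat.LocalCriterion
import Mathlib.RingTheory.Flat.FaithfullyFlat.Basic

/-!
Flatness tested on truncations.
-/

universe u

open TensorProduct

set_option linter.style.haveILetI false

namespace Groth.Agent.H24Val

open AdicRing

variable {R : Type u} [CommRing R] {I : Ideal R} {A : Type u} [CommRing A] [Algebra R A]
  {B : Type u} [CommRing B] [Algebra R B] [Algebra A B] [IsScalarTower R A B]
  {M : Type u} [AddCommGroup M] [Module B M] [Module A M] [IsScalarTower A B M] [Module.Finite B M]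

theorem flat_of_flat_trunc (hR : IsBase R I) (hA : TopFiniteType R I A) (hB : TopFiniteType R I B)
    (h : ∀ n : ℕ, Module.Flat (trunc A I n) ((trunc A I n) ⊗[A] M)) : Module.Flat A M := by
  letI : Module R M := Module.compHom M (algebraMap R B)
  haveI hRBM : IsScalarTower R B M := IsScalarTower.of_algebraMap_smul fun _ _ => rfl
  haveI : IsScalarTower R A M := IsScalarTower.of_algebraMap_smul fun r m => by
    rw [← IsScalarTower.algebraMap_smul B (algebraMap R A r) m, ← IsScalarTower.algebraMap_apply]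
    rfl
  rw [Module.Flat.iff_lTensor_injective]
  intro J hJ
  haveI : Module.Finite A J := Module.Finite.iff_fg.mpr hJ
  haveI : Module.Finite B (M ⊗[A] J) := H7Flat.finite_tensor
  haveI : IsAdicComplete I (M ⊗[A] J) :=
    isAdicComplete_topFinite (A := B) (M := M ⊗[A] J) hR hB
  obtain ⟨n₀, hn₀⟩ := exists_artinRees_topFinite (M := A) hR hA J
  rw [injective_iff_map_eq_zero]
  intro x hx
  refine IsHausdorff.haus (I := I) inferInstance x fun m => ?_
  rw [SModEq.sub_mem, sub_zero]
  let L : Ideal A := (I ^ (m + n₀ + 1)).map (algebraMap R A)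
  haveI : Module.Flat (A ⧸ L) ((A ⧸ L) ⊗[A] M) := h (m + n₀)
  let J' : Submodule (A ⧸ L) (A ⧸ L) := J.map (Ideal.Quotient.mk L)
  let q : J →ₗ[A] J' :=
    { toFun := fun j => ⟨Ideal.Quotient.mk L j.1, Ideal.mem_map_of_mem _ j.2⟩
      map_add' := fun a b => Subtype.ext (map_add _ _ _)
      map_smul' := fun a b => Subtype.ext (map_mul (Ideal.Quotient.mk L) a b.1) }
  have hq : Function.Surjective q := fun y => by
    obtain ⟨j, hj, hjy⟩ := (Ideal.mem_map_iff_of_surjective _ Ideal.Quotient.mk_surjective).mp y.2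
    exact ⟨⟨j, hj⟩, Subtype.ext hjy⟩
  let K : Submodule A J := Submodule.comap J.subtype L
  have hex : Function.Exact K.subtype q := fun j => by
    constructor
    · intro hj
      exact ⟨⟨j, Ideal.Quotient.eq_zero_iff_mem.mp (congrArg Subtype.val hj)⟩, rfl⟩
    · rintro ⟨j, rfl⟩
      exact Subtype.ext (Ideal.Quotient.eq_zero_iff_mem.mpr j.2)
  have h1 : q.lTensor M x = 0 := by
    refine H7Flat.lTensor_injective_of_flat_quotient L J'.subtype J'.injective_subtype ?_
    rw [map_zero, ← LinearMap.comp_apply, ← LinearMap.lTensor_comp,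
      show (J'.subtype.restrictScalars A) ∘ₗ q =
        (Algebra.linearMap A (A ⧸ L)) ∘ₗ J.subtype from LinearMap.ext fun _ => rfl,
      LinearMap.lTensor_comp, LinearMap.comp_apply, hx, map_zero]
  obtain ⟨w, rfl⟩ := (lTensor_exact M hex hq x).mp h1
  clear hx h1
  induction w using TensorProduct.induction_on with
  | zero => simp
  | add a b ha hb => rw [map_add]; exact add_mem ha hb
  | tmul y k =>
    rw [LinearMap.lTensor_tmul]
    have hk : ((k : J) : A) ∈ I ^ m • J.restrictScalars R := by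
      refine hn₀ m ⟨?_, (k : J).2⟩
      have hle : I ^ (m + n₀ + 1) ≤ I ^ (m + n₀) := Ideal.pow_le_pow_right (Nat.le_succ _)
      exact Submodule.smul_mono_left hle (by
        rw [Ideal.smul_top_eq_map]; exact k.2)
    have key : ∀ z ∈ I ^ m • J.restrictScalars R, ∃ hz : z ∈ J,
        y ⊗ₜ[A] (⟨z, hz⟩ : J) ∈ (I ^ m • ⊤ : Submodule R (M ⊗[A] J)) := by
      intro z hz
      refine Submodule.smul_induction_on hz (fun a ha b hb => ⟨J.smul_of_tower_mem a hb, ?_⟩) ?_
      · rw [show (⟨a • b, J.smul_of_tower_mem a hb⟩ : J) = algebraMap R A a • (⟨b, hb⟩ : J) from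
            Subtype.ext (algebraMap_smul A a b).symm, TensorProduct.tmul_smul, algebraMap_smul]
        exact Submodule.smul_mem_smul ha Submodule.mem_top
      · rintro a b ⟨ha, ha'⟩ ⟨hb, hb'⟩
        refine ⟨add_mem ha hb, ?_⟩
        rw [show (⟨a + b, add_mem ha hb⟩ : J) = ⟨a, ha⟩ + ⟨b, hb⟩ from rfl, TensorProduct.tmul_add]
        exact add_mem ha' hb'
    exact (key _ hk).2

theorem faithfullyFlat_of_faithfullyFlat_trunc (hR : IsBase R I) (hA : TopFiniteType R I A)
    (hB : TopFiniteType R I B)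
    (h : ∀ n : ℕ, Module.FaithfullyFlat (trunc A I n) ((trunc A I n) ⊗[A] M)) :
    Module.FaithfullyFlat A M := by
  haveI := flat_of_flat_trunc (M := M) hR hA hB fun n => (h n).toFlat
  refine { submodule_ne_top := fun P hP hPtop => ?_ }
  haveI : IsAdicComplete (I.map (algebraMap R A)) A :=
    (IsAdicComplete.map_algebraMap_iff _ _).2 (isAdicComplete_topFinite (A := A) (M := A) hR hA)
  let L : Ideal A := (I ^ (0 + 1)).map (algebraMap R A)
  have hLP : L ≤ P := by
    change (I ^ (0 + 1)).map (algebraMap R A) ≤ P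
    rw [pow_one]
    exact (IsAdicComplete.le_jacobson_bot _).trans (sInf_le ⟨bot_le, hP⟩)
  letI : Algebra (A ⧸ L) (A ⧸ P) := (Ideal.Quotient.factor hLP).toAlgebra
  haveI : IsScalarTower A (A ⧸ L) (A ⧸ P) := IsScalarTower.of_algebraMap_eq fun _ => rfl
  haveI : Module.FaithfullyFlat (A ⧸ L) ((A ⧸ L) ⊗[A] M) := h 0
  haveI : Nontrivial (A ⧸ P) := Ideal.Quotient.nontrivial_iff.mpr hP.ne_top
  have hn : Nontrivial ((A ⧸ P) ⊗[A ⧸ L] ((A ⧸ L) ⊗[A] M)) := inferInstance
  have hs : Subsingleton ((A ⧸ P) ⊗[A] M) := by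
    haveI : Subsingleton (M ⧸ (P • ⊤ : Submodule A M)) := Submodule.Quotient.subsingleton_iff.mpr hPtop
    exact (TensorProduct.quotTensorEquivQuotSMul M P).subsingleton
  have := (AlgebraTensorModule.cancelBaseChange A (A ⧸ L) (A ⧸ L) (A ⧸ P) M).subsingleton
  exact not_subsingleton _ this

end Groth.Agent.H24Val
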