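import Groth.Agent.H24Val.Surj
import Groth.Agent.H24Val.FlatTrunc
import Mathlib.RingTheory.Localization.Away.Basic

/-!
Complete localizations.
-/

universe u

open TensorProduct

set_option linter.style.haveILetI false

namespace Groth.Agent.H24Val

open AdicRing

variable {R : Type u} [CommRing R] {I : Ideal R} {A : Type u} [CommRing A] [Algebra R A]

theorem exists_loc_approx (hI : I.FG) (f : A) (m : ℕ) (x : CLoc I f) :
    ∃ a : Localization.Away f, x - algebraMap (Localization.Away f) (CLoc I f) a ∈
      ((I.map (algebraMap R (Localization.Away f))) ^ m).map (algebraMap (Localization.Away f) (CLoc I f)) :=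
  H24Adic.exists_sub_of_mem (hI.map _) m x

theorem topFiniteType_cLoc (hR : IsBase R I) (hA : TopFiniteType R I A) (f : A) :
    TopFiniteType R I (CLoc I f) := by
  obtain ⟨n, φ, hφ⟩ := hA
  have hI := fg_of_isBase hR
  haveI := isAdicComplete_completion (P := Localization.Away f) hI
  haveI : IsAdicComplete (I.map (algebraMap R (CLoc I f))) (CLoc I f) :=
    (IsAdicComplete.map_algebraMap_iff _ _).2 inferInstance
  let π : A →ₐ[R] CLoc I f := (IsScalarTower.toAlgHom R (Localization.Away f) (CLoc I f)).comp
    (IsScalarTower.toAlgHom R A (Localization.Away f))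
  let inv : CLoc I f := algebraMap (Localization.Away f) (CLoc I f) (IsLocalization.Away.invSelf f)
  let y : Fin (n + 1) → CLoc I f :=
    Fin.snoc (fun i => π (φ (algebraMap (MvPolynomial (Fin n) R) _ (MvPolynomial.X i)))) inv
  obtain ⟨ψ, hψ, -⟩ := exists_surjective (B := CLoc I f) hI (MvPolynomial.aeval y) fun b => by
    obtain ⟨a, ha⟩ := exists_loc_approx hI f 1 b
    obtain ⟨a₀, ⟨_, k, rfl⟩, rfl⟩ := IsLocalization.exists_mk'_eq (Submonoid.powers f) a
    obtain ⟨x, rfl⟩ := hφ a₀
    obtain ⟨p, hp⟩ := H24Adic.exists_sub_of_mem (hI.map (MvPolynomial.C : R →+* MvPolynomial (Fin n) R)) 1 x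
    let M : Ideal (CLoc I f) := I.map (algebraMap R (CLoc I f))
    refine ⟨MvPolynomial.rename Fin.castSucc p * MvPolynomial.X (Fin.last n) ^ k, ?_⟩
    have h1 : b - algebraMap _ (CLoc I f)
        (IsLocalization.mk' (Localization.Away f) (φ x) (⟨f ^ k, k, rfl⟩ : Submonoid.powers f)) ∈ M := by
      have h := ha
      rw [pow_one, Ideal.map_map, ← IsScalarTower.algebraMap_eq] at h
      exact h
    have h2 : π (φ x) - π (φ (algebraMap _ _ p)) ∈ M := by
      rw [pow_one] at hp
      have h := Ideal.mem_map_of_mem ((π.comp φ).toRingHom) hp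
      rw [Ideal.map_map, Ideal.map_map] at h
      rw [← map_sub, ← map_sub]
      refine (le_of_eq (congrArg (fun g : R →+* CLoc I f => I.map g) ?_)) h
      exact RingHom.ext fun r => (π.comp φ).commutes r
    have h3 : MvPolynomial.aeval y (MvPolynomial.rename Fin.castSucc p) = π (φ (algebraMap _ _ p)) := by
      rw [MvPolynomial.aeval_rename]
      change MvPolynomial.aeval (y ∘ Fin.castSucc) p =
        (π.comp (φ.comp (IsScalarTower.toAlgHom R (MvPolynomial (Fin n) R) (RPow R I n)))) p
      congr 1
      refine MvPolynomial.algHom_ext fun i => ?_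
      rw [MvPolynomial.aeval_X]
      simp only [y, Function.comp_apply, Fin.snoc_castSucc]
      rfl
    have h4 : algebraMap _ (CLoc I f)
        (IsLocalization.mk' (Localization.Away f) (φ x) (⟨f ^ k, k, rfl⟩ : Submonoid.powers f)) =
        π (φ x) * inv ^ k := by
      change _ = algebraMap _ (CLoc I f) (algebraMap A (Localization.Away f) (φ x)) *
        algebraMap _ (CLoc I f) (IsLocalization.Away.invSelf f) ^ k
      rw [← map_pow, ← map_mul]
      congr 1
      rw [IsLocalization.mk'_eq_iff_eq_mul, map_pow, mul_assoc, ← mul_pow]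
      rw [mul_comm (IsLocalization.Away.invSelf f), IsLocalization.Away.mul_invSelf, one_pow, mul_one]
    rw [map_mul, h3, map_pow, MvPolynomial.aeval_X, show y (Fin.last n) = inv from Fin.snoc_last _ _]
    rw [h4] at h1
    have h5 := add_mem h1 (M.mul_mem_right (inv ^ k) h2)
    rwa [sub_mul, sub_add_sub_cancel] at h5
  exact ⟨n + 1, ψ, hψ⟩

theorem flat_trunc_cLoc (hI : I.FG) (f : A) (n : ℕ) :
    Module.Flat (trunc A I n) ((trunc A I n) ⊗[A] CLoc I f) := by
  let L : Ideal A := (I ^ (n + 1)).map (algebraMap R A)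
  let J : Ideal (Localization.Away f) := I.map (algebraMap R (Localization.Away f))
  let ι : Localization.Away f →ₗ[A] CLoc I f :=
    (IsScalarTower.toAlgHom A (Localization.Away f) (CLoc I f)).toLinearMap
  haveI : Module.Flat A (Localization.Away f) := IsLocalization.flat _ (Submonoid.powers f)
  have hJ : L.map (algebraMap A (Localization.Away f)) = J ^ (n + 1) := by
    rw [Ideal.map_map, ← IsScalarTower.algebraMap_eq, Ideal.map_pow]
  have hbij : Function.Bijective (ι.baseChange (A ⧸ L)) := by
    constructor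
    · rw [injective_iff_map_eq_zero]
      intro z hz
      obtain ⟨x, rfl⟩ := TensorProduct.mk_surjective A _ (A ⧸ L) Ideal.Quotient.mk_surjective z
      rw [TensorProduct.mk_apply, LinearMap.baseChange_tmul] at hz
      have h1 := congrArg (TensorProduct.quotTensorEquivQuotSMul (CLoc I f) L) hz
      rw [map_zero, TensorProduct.quotTensorEquivQuotSMul_mk_one_tmul, Submodule.Quotient.mk_eq_zero,
        Ideal.smul_top_eq_map, Submodule.restrictScalars_mem] at h1
      rw [IsScalarTower.algebraMap_eq A (Localization.Away f) (CLoc I f), ← Ideal.map_map, hJ] at h1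
      have h2 := Ideal.mem_map_of_mem (AdicCompletion.evalₐ J (n + 1)).toRingHom h1
      rw [Ideal.map_map] at h2
      have h3 : Ideal.Quotient.mk (J ^ (n + 1)) x ∈ (J ^ (n + 1)).map (Ideal.Quotient.mk (J ^ (n + 1))) := by
        have hc : (AdicCompletion.evalₐ J (n + 1)).toRingHom.comp
            (algebraMap (Localization.Away f) (AdicCompletion J (Localization.Away f))) =
            Ideal.Quotient.mk (J ^ (n + 1)) := RingHom.ext fun a => AdicCompletion.evalₐ_of J (n + 1) a
        exact (AdicCompletion.evalₐ_of J (n + 1) x) ▸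
          (le_of_eq (congrArg (fun g => (J ^ (n + 1)).map g) hc)) h2
      rw [Ideal.map_quotient_self, Ideal.mem_bot, Ideal.Quotient.eq_zero_iff_mem, ← hJ,
        ← Submodule.restrictScalars_mem A, ← Ideal.smul_top_eq_map] at h3
      rw [TensorProduct.mk_apply, ← TensorProduct.quotTensorEquivQuotSMul_symm_mk,
        (Submodule.Quotient.mk_eq_zero _).mpr h3, map_zero]
    · intro z
      obtain ⟨y, rfl⟩ := TensorProduct.mk_surjective A _ (A ⧸ L) Ideal.Quotient.mk_surjective z
      obtain ⟨a, ha⟩ := exists_loc_approx hI f (n + 1) y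
      refine ⟨1 ⊗ₜ a, ?_⟩
      rw [LinearMap.baseChange_tmul, TensorProduct.mk_apply, eq_comm, ← sub_eq_zero, ← TensorProduct.tmul_sub,
        ← TensorProduct.quotTensorEquivQuotSMul_symm_mk, (Submodule.Quotient.mk_eq_zero _).mpr, map_zero]
      rw [Ideal.smul_top_eq_map, Submodule.restrictScalars_mem,
        IsScalarTower.algebraMap_eq A (Localization.Away f) (CLoc I f), ← Ideal.map_map, hJ]
      exact ha
  exact Module.Flat.of_linearEquiv (LinearEquiv.ofBijective (ι.baseChange (A ⧸ L)) hbij).symm

theorem flat_cLoc (hR : IsBase R I) (hA : TopFiniteType R I A) (f : A) : Module.Flat A (CLoc I f) :=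
  flat_of_flat_trunc hR hA (topFiniteType_cLoc hR hA f) fun n => flat_trunc_cLoc (fg_of_isBase hR) f n

end Groth.Agent.H24Val
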