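import Mathlib.RingTheory.AdicCompletion.AsTensorProduct
import Mathlib.RingTheory.AdicCompletion.Noetherian
import Mathlib.RingTheory.Flat.Tensor

/-!
Completion along a principal ideal of rings in which saturated submodules are finitely generated.
-/

universe u

open TensorProduct

set_option linter.style.haveILetI false

namespace Groth.Agent.H24Val

/-- Every `τ`-saturated submodule of a finite free module is finitely generated. -/
def SatFG (B : Type u) [CommRing B] (τ : B) : Prop :=
  ∀ (s : ℕ) (N : Submodule B (Fin s → B)), (∀ x, τ • x ∈ N → x ∈ N) → N.FG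

variable {B : Type u} [CommRing B] {τ : B}

theorem mem_span_pow_smul_top {M : Type*} [AddCommGroup M] [Module B M] (k : ℕ) (x : M) :
    x ∈ (Ideal.span {τ} ^ k • ⊤ : Submodule B M) ↔ ∃ y, τ ^ k • y = x := by
  rw [Ideal.span_singleton_pow, Submodule.ideal_span_singleton_smul, Submodule.mem_smul_pointwise_iff_exists]
  exact ⟨fun ⟨y, _, hy⟩ => ⟨y, hy⟩, fun ⟨y, hy⟩ => ⟨y, Submodule.mem_top, hy⟩⟩

namespace SatFG

variable (h : SatFG B τ)
include h

theorem fg {M : Type u} [AddCommGroup M] [Module B M] [Module.Finite B M] (N : Submodule B M)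
    (hN : ∀ x, τ • x ∈ N → x ∈ N) : N.FG := by
  obtain ⟨s, ψ, hψ⟩ := Module.Finite.exists_fin' B M
  have h1 := h s (N.comap ψ) fun x hx => by
    have hx' : ψ (τ • x) ∈ N := hx
    rw [map_smul] at hx'
    exact hN _ hx'
  have h2 := h1.map ψ
  rwa [Submodule.map_comap_eq_of_surjective hψ] at h2

theorem exists_saturation {M : Type u} [AddCommGroup M] [Module B M] [Module.Finite B M]
    (N : Submodule B M) : ∃ (T : Submodule B M) (n₀ : ℕ), T.FG ∧ N ≤ T ∧
      (∀ (k : ℕ) x, τ ^ k • x ∈ T → x ∈ T) ∧ ∀ x ∈ T, τ ^ n₀ • x ∈ N := by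
  let T : Submodule B M :=
    { carrier := {x | ∃ k : ℕ, τ ^ k • x ∈ N}
      add_mem' := by
        rintro x y ⟨a, ha⟩ ⟨b, hb⟩
        refine ⟨a + b, ?_⟩
        rw [smul_add]
        refine add_mem ?_ ?_
        · rw [add_comm a b, pow_add, mul_smul]; exact N.smul_mem _ ha
        · rw [pow_add, mul_smul]; exact N.smul_mem _ hb
      zero_mem' := ⟨0, by rw [smul_zero]; exact zero_mem N⟩
      smul_mem' := by
        rintro c x ⟨a, ha⟩
        exact ⟨a, by rw [← smul_comm]; exact N.smul_mem c ha⟩ }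
  have hsat : ∀ (k : ℕ) x, τ ^ k • x ∈ T → x ∈ T := by
    rintro k x ⟨a, ha⟩
    exact ⟨a + k, by rw [pow_add, mul_smul]; exact ha⟩
  have hfg : T.FG := h.fg T fun x hx => hsat 1 x (by rwa [pow_one])
  obtain ⟨a, g, hg⟩ := Submodule.fg_iff_exists_fin_generating_family.mp hfg
  choose e he using fun i => (show g i ∈ T from hg ▸ Submodule.subset_span ⟨i, rfl⟩)
  refine ⟨T, Finset.univ.sup e, hfg, fun x hx => ⟨0, by rwa [pow_zero, one_smul]⟩, hsat, fun x hx => ?_⟩
  rw [← hg, Submodule.mem_span_range_iff_exists_fun] at hx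
  obtain ⟨c, rfl⟩ := hx
  rw [Finset.smul_sum]
  refine N.sum_mem fun i _ => ?_
  rw [smul_comm]
  refine N.smul_mem _ ?_
  obtain ⟨j, hj⟩ := Nat.exists_eq_add_of_le (Finset.le_sup (f := e) (Finset.mem_univ i))
  rw [hj, add_comm, pow_add, mul_smul]
  exact N.smul_mem _ (he i)

theorem exists_artinRees {M : Type u} [AddCommGroup M] [Module B M] [Module.Finite B M]
    (N : Submodule B M) :
    ∃ n₀ : ℕ, ∀ (k : ℕ) (y : M), τ ^ (k + n₀) • y ∈ N → ∃ y' ∈ N, τ ^ (k + n₀) • y = τ ^ k • y' := by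
  obtain ⟨T, n₀, -, hNT, hsat, hn₀⟩ := h.exists_saturation N
  exact ⟨n₀, fun k y hy => ⟨τ ^ n₀ • y, hn₀ y (hsat _ y (hNT hy)), by rw [← mul_smul, ← pow_add]⟩⟩

theorem map_injective {M N : Type u} [AddCommGroup M] [Module B M] [AddCommGroup N] [Module B N]
    [Module.Finite B N] {f : M →ₗ[B] N} (hf : Function.Injective f) :
    Function.Injective (AdicCompletion.map (Ideal.span {τ}) f) := by
  obtain ⟨n₀, hn₀⟩ := h.exists_artinRees (LinearMap.range f)
  rw [injective_iff_map_eq_zero]
  intro x hx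
  refine AdicCompletion.ext fun k => ?_
  rw [AdicCompletion.val_zero_apply]
  have h1 := congrArg (fun z => z.val (k + n₀)) hx
  simp only [AdicCompletion.map_val_apply, AdicCompletion.val_zero_apply] at h1
  rw [← x.2 (Nat.le_add_right k n₀)]
  obtain ⟨a, ha⟩ := Submodule.mkQ_surjective _ (x.val (k + n₀))
  rw [← ha] at h1 ⊢
  change Submodule.Quotient.mk (f a) = 0 at h1
  rw [Submodule.Quotient.mk_eq_zero, mem_span_pow_smul_top] at h1
  obtain ⟨y, hy⟩ := h1
  obtain ⟨_, ⟨m, rfl⟩, hym⟩ := hn₀ k y ⟨a, hy.symm⟩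
  have hac : a = τ ^ k • m := hf (by rw [map_smul, ← hym, hy])
  change Submodule.Quotient.mk a = 0
  rw [Submodule.Quotient.mk_eq_zero, mem_span_pow_smul_top]
  exact ⟨m, hac.symm⟩

theorem ofTensorProduct_bijective (M : Type u) [AddCommGroup M] [Module B M] [Module.Finite B M] :
    Function.Bijective (AdicCompletion.ofTensorProduct (Ideal.span {τ}) M) := by
  classical
  let I := Ideal.span {τ}
  refine ⟨?_, AdicCompletion.ofTensorProduct_surjective_of_finite I M⟩
  obtain ⟨s, ψ, hψ⟩ := Module.Finite.exists_fin' B M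
  let N := LinearMap.ker ψ
  obtain ⟨T, n₀, hTfg, hNT, hsat, hn₀⟩ := h.exists_saturation N
  obtain ⟨a, g, hg⟩ := Submodule.fg_iff_exists_fin_generating_family.mp hTfg
  have hgT : ∀ l, g l ∈ T := fun l => hg ▸ Submodule.subset_span ⟨l, rfl⟩
  have hF := AdicCompletion.ofTensorProduct_bijective_of_pi_of_fintype I (Fin s)
  rw [injective_iff_map_eq_zero]
  intro z hz
  obtain ⟨w, rfl⟩ := LinearMap.lTensor_surjective (AdicCompletion I B) hψ z
  have hnat : ∀ u, AdicCompletion.map I ψ (AdicCompletion.ofTensorProduct I (Fin s → B) u) =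
      AdicCompletion.ofTensorProduct I M (ψ.lTensor _ u) := fun u =>
    LinearMap.congr_fun (AdicCompletion.ofTensorProduct_naturality I ψ) u
  rw [← hnat] at hz
  let zb := AdicCompletion.ofTensorProduct I (Fin s → B) w
  -- representatives in the kernel
  have hrep : ∀ k, ∃ x ∈ N, (Submodule.mkQ (I ^ k • ⊤ : Submodule B (Fin s → B))) x = zb.val k := by
    intro k
    obtain ⟨x, hx⟩ := Submodule.mkQ_surjective _ (zb.val k)
    have h1 := congrArg (fun v => v.val k) hz
    simp only [AdicCompletion.map_val_apply, AdicCompletion.val_zero_apply] at h1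
    change LinearMap.reduceModIdeal (I ^ k) ψ (zb.val k) = 0 at h1
    rw [← hx] at h1
    change Submodule.Quotient.mk (ψ x) = 0 at h1
    rw [Submodule.Quotient.mk_eq_zero, mem_span_pow_smul_top] at h1
    obtain ⟨y, hy⟩ := h1
    obtain ⟨y', rfl⟩ := hψ y
    refine ⟨x - τ ^ k • y', ?_, ?_⟩
    · rw [LinearMap.mem_ker, map_sub, map_smul, hy, sub_self]
    · rw [map_sub, hx, sub_eq_self, Submodule.mkQ_apply, Submodule.Quotient.mk_eq_zero, mem_span_pow_smul_top]
      exact ⟨y', rfl⟩
  choose x hxN hxz using hrep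
  have hdiff : ∀ k, ∃ c : Fin a → B, x (k + 1) - x k = τ ^ k • ∑ l, c l • g l := by
    intro k
    have h1 : x (k + 1) - x k ∈ (I ^ k • ⊤ : Submodule B (Fin s → B)) := by
      rw [← Submodule.Quotient.eq, ← Submodule.mkQ_apply, ← Submodule.mkQ_apply, hxz k, ← zb.2 (Nat.le_succ k),
        ← hxz (k + 1)]
      rfl
    rw [mem_span_pow_smul_top] at h1
    obtain ⟨y, hy⟩ := h1
    have hyT : y ∈ T := hsat k y (hNT (hy ▸ N.sub_mem (hxN _) (hxN _)))
    rw [← hg, Submodule.mem_span_range_iff_exists_fun] at hyT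
    obtain ⟨c, hc⟩ := hyT
    exact ⟨c, by rw [hc, hy]⟩
  choose c hc using hdiff
  let S : Fin a → ℕ → B := fun l k => ∑ j ∈ Finset.range k, τ ^ j * c (n₀ + j) l
  have hS : ∀ l, AdicCompletion.IsAdicCauchy I B (S l) := fun l => by
    rw [AdicCompletion.isAdicCauchy_iff]
    intro k
    rw [SModEq.comm, SModEq.sub_mem, mem_span_pow_smul_top]
    refine ⟨c (n₀ + k) l, ?_⟩
    rw [show S l (k + 1) = S l k + τ ^ k * c (n₀ + k) l from Finset.sum_range_succ _ k, add_sub_cancel_left]
    rfl
  let C : Fin a → AdicCompletion I B := fun l => AdicCompletion.mk I B ⟨S l, hS l⟩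
  let u : AdicCompletion I B ⊗[B] N := (1 : AdicCompletion I B) ⊗ₜ ⟨x n₀, hxN n₀⟩ +
    ∑ l, C l ⊗ₜ ⟨τ ^ n₀ • g l, hn₀ _ (hgT l)⟩
  have hu : N.subtype.lTensor (AdicCompletion I B) u = w := by
    refine hF.1 (AdicCompletion.ext fun k => ?_)
    change _ = zb.val k
    simp only [u, map_add, map_sum, LinearMap.lTensor_tmul, Submodule.subtype_apply,
      AdicCompletion.ofTensorProduct_tmul, one_smul, AdicCompletion.val_add_apply, AdicCompletion.val_sum_apply,
      AdicCompletion.smul_eval]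
    have key : x (n₀ + k) = x n₀ + ∑ l, S l k • τ ^ n₀ • g l := by
      clear hz
      induction k with
      | zero => simp [S]
      | succ k ih =>
        rw [show x (n₀ + (k + 1)) = x (n₀ + k) + (x (n₀ + k + 1) - x (n₀ + k)) by rw [add_sub_cancel]; rfl,
          hc, ih, add_assoc, Finset.smul_sum, ← Finset.sum_add_distrib]
        congr 1
        refine Finset.sum_congr rfl fun l _ => ?_
        rw [show S l (k + 1) = S l k + τ ^ k * c (n₀ + k) l from Finset.sum_range_succ _ k, add_smul]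
        congr 1
        rw [← mul_smul, ← mul_smul]
        congr 1
        rw [pow_add]
        ring
    calc _ = Submodule.mkQ (I ^ k • ⊤ : Submodule B (Fin s → B)) (x n₀ + ∑ l, S l k • τ ^ n₀ • g l) := by
            rw [map_add, map_sum]; rfl
      _ = _ := by
        rw [← key, ← zb.2 (Nat.le_add_left k n₀), ← hxz]
        rfl
  rw [← hu, ← LinearMap.comp_apply, ← LinearMap.lTensor_comp, show ψ ∘ₗ N.subtype = 0 from
    LinearMap.ext fun v => v.2, LinearMap.lTensor_zero, LinearMap.zero_apply]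

theorem flat : Module.Flat B (AdicCompletion (Ideal.span {τ}) B) := by
  rw [Module.Flat.iff_lTensor_injective]
  intro J hJ
  haveI : Module.Finite B J := Module.Finite.iff_fg.mpr hJ
  have hnat : ∀ u, AdicCompletion.map (Ideal.span {τ}) J.subtype
      (AdicCompletion.ofTensorProduct (Ideal.span {τ}) J u) =
      AdicCompletion.ofTensorProduct (Ideal.span {τ}) B (J.subtype.lTensor _ u) := fun u =>
    LinearMap.congr_fun (AdicCompletion.ofTensorProduct_naturality (Ideal.span {τ}) J.subtype) u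
  intro x y hxy
  refine (h.ofTensorProduct_bijective J).1 (h.map_injective J.injective_subtype ?_)
  rw [hnat, hnat, hxy]

end SatFG

end Groth.Agent.H24Val
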