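import Mathlib.RingTheory.MvPolynomial.Homogeneous
import Mathlib.RingTheory.Polynomial.Basic

/-!
Generators of submodules of a free module over a polynomial ring with bounded degree representations.
-/

universe u v

open MvPolynomial

namespace Groth.Agent.H24Val

variable {k : Type u} [CommRing k] [IsNoetherianRing k] {n : ℕ} {ι : Type v} [Finite ι]

theorem homogeneousComponent_mul_isHomogeneous {σ : Type*} (h w : MvPolynomial σ k) {e d : ℕ}
    (hw : w.IsHomogeneous e) :
    homogeneousComponent d (h * w) = if e ≤ d then homogeneousComponent (d - e) h * w else 0 := by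
  classical
  conv_lhs => rw [← sum_homogeneousComponent h, Finset.sum_mul, map_sum]
  have key : ∀ i, homogeneousComponent d (homogeneousComponent i h * w) =
      if d = i + e then homogeneousComponent i h * w else 0 := fun i => by
    rw [homogeneousComponent_of_mem ((homogeneousComponent_isHomogeneous i h).mul hw)]
  simp only [key]
  split_ifs with he
  · rw [Finset.sum_eq_single (d - e)]
    · rw [if_pos (by omega)]
    · intro i _ hi
      rw [if_neg (by omega)]
    · intro hi
      rw [Finset.mem_range, not_lt] at hi
      rw [if_pos (by omega), homogeneousComponent_eq_zero _ _ (by omega), zero_mul]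
  · exact Finset.sum_eq_zero fun i _ => if_neg (by omega)

theorem totalDegree_le_pred {σ : Type*} {p : MvPolynomial σ k} {d : ℕ} (hp : p.totalDegree ≤ d + 1)
    (h : homogeneousComponent (d + 1) p = 0) : p.totalDegree ≤ d := by
  classical
  refine Finset.sup_le fun s hs => ?_
  have h1 : (s.sum fun _ e => e) ≤ d + 1 := (le_totalDegree hs).trans hp
  rcases Nat.lt_or_ge (s.sum fun _ e => e) (d + 1) with h2 | h2
  · omega
  · exfalso
    refine mem_support_iff.mp hs ?_
    have h3 := congrArg (coeff s) h
    rw [coeff_homogeneousComponent, coeff_zero, if_pos] at h3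
    · exact h3
    · have : Finsupp.degree s = (s.sum fun _ e => e) := by
        rw [Finsupp.degree_apply]; rfl
      omega

/-- A submodule of `k[X]^ι` has generators through which every element is a combination without
raising the degree. -/
theorem exists_degree_basis (N : Submodule (MvPolynomial (Fin n) k) (ι → MvPolynomial (Fin n) k)) :
    ∃ (m : ℕ) (v : Fin m → ι → MvPolynomial (Fin n) k) (e : Fin m → ℕ),
      (∀ i, v i ∈ N) ∧ (∀ i j, (v i j).totalDegree ≤ e i) ∧
      ∀ (d : ℕ) (w : ι → MvPolynomial (Fin n) k), w ∈ N → (∀ j, (w j).totalDegree ≤ d) →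
        ∃ h : Fin m → MvPolynomial (Fin n) k,
          (∀ i j, (h i * v i j).totalDegree ≤ d) ∧ w = ∑ i, h i • v i := by
  classical
  haveI : IsNoetherian (MvPolynomial (Fin n) k) (ι → MvPolynomial (Fin n) k) := inferInstance
  let top : ℕ → (ι → MvPolynomial (Fin n) k) → ι → MvPolynomial (Fin n) k :=
    fun d w j => homogeneousComponent d (w j)
  let S : Set (ι → MvPolynomial (Fin n) k) :=
    {z | ∃ (d : ℕ) (w : ι → MvPolynomial (Fin n) k),
      w ∈ N ∧ (∀ j, (w j).totalDegree ≤ d) ∧ top d w = z}
  obtain ⟨T, hTS, hT⟩ := Submodule.fg_span_iff_fg_span_finset_subset S |>.mp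
    (IsNoetherian.noetherian (Submodule.span (MvPolynomial (Fin n) k) S))
  choose dd ww hwN hwd hwtop using fun z : T => hTS z.2
  let eT := (Fintype.equivFin T).symm
  refine ⟨_, fun i => ww (eT i), fun i => dd (eT i), fun i => hwN _, fun i j => hwd _ j, ?_⟩
  intro d
  induction d using Nat.strong_induction_on with
  | _ d ih =>
    intro w hw hdeg
    have hmem : top d w ∈ Submodule.span (MvPolynomial (Fin n) k) (T : Set _) :=
      hT ▸ Submodule.subset_span ⟨d, w, hw, hdeg, rfl⟩
    obtain ⟨h₀, hh₀⟩ := (Submodule.mem_span_finset').mp hmem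
    let h' : T → MvPolynomial (Fin n) k := fun z =>
      if dd z ≤ d then homogeneousComponent (d - dd z) (h₀ z) else 0
    have hdeg' : ∀ z j, (h' z * ww z j).totalDegree ≤ d := fun z j => by
      by_cases hz : dd z ≤ d
      · simp only [h', if_pos hz]
        refine (totalDegree_mul _ _).trans ?_
        have h1 := (homogeneousComponent_isHomogeneous (d - dd z) (h₀ z)).totalDegree_le
        have h2 := hwd z j
        omega
      · simp [h', if_neg hz]
    set w₁ : ι → MvPolynomial (Fin n) k := w - ∑ z, h' z • ww z with hw₁
    have hw₁N : w₁ ∈ N :=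
      sub_mem hw (Submodule.sum_mem _ fun z _ => N.smul_mem _ (hwN z))
    have hw₁d : ∀ j, (w₁ j).totalDegree ≤ d := fun j => by
      rw [hw₁, Pi.sub_apply, Finset.sum_apply]
      refine (totalDegree_sub _ _).trans (max_le (hdeg j) ?_)
      refine (totalDegree_finset_sum _ _).trans (Finset.sup_le fun z _ => ?_)
      exact hdeg' z j
    have hw₁top : top d w₁ = 0 := by
      funext j
      have hj := congrFun hh₀ j
      rw [Finset.sum_apply] at hj
      have hj' := congrArg (homogeneousComponent d) hj
      simp only [Pi.smul_apply, smul_eq_mul, map_sum, top] at hj'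
      rw [homogeneousComponent_of_mem (homogeneousComponent_isHomogeneous d (w j)), if_pos rfl] at hj'
      simp only [top, hw₁, Pi.sub_apply, Finset.sum_apply, Pi.smul_apply, smul_eq_mul, Pi.zero_apply,
        map_sub, map_sum]
      rw [sub_eq_zero, ← hj']
      refine Finset.sum_congr rfl fun z _ => ?_
      have hz : (z : ι → MvPolynomial (Fin n) k) j = homogeneousComponent (dd z) (ww z j) :=
        (congrFun (hwtop z) j).symm
      rw [hz, homogeneousComponent_mul_isHomogeneous _ _ (homogeneousComponent_isHomogeneous _ _)]
      by_cases hle : dd z ≤ d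
      · rw [if_pos hle]
        simp only [h', if_pos hle]
        rcases Nat.lt_or_ge (ww z j).totalDegree (dd z) with hlt | hge
        · rw [homogeneousComponent_eq_zero _ _ hlt, mul_zero]
          exact (homogeneousComponent_eq_zero _ _ ((totalDegree_mul _ _).trans_lt (by
            have := (homogeneousComponent_isHomogeneous (d - dd z) (h₀ z)).totalDegree_le
            omega))).symm
        · rw [mul_comm, mul_comm _ (ww z j), homogeneousComponent_mul_isHomogeneous _ _
            (homogeneousComponent_isHomogeneous _ _), if_pos (by omega),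
            show d - (d - dd z) = dd z by omega]
      · rw [if_neg hle]
        simp [h', if_neg hle]
    rcases Nat.eq_zero_or_pos d with hd | hd
    · subst hd
      refine ⟨fun i => h' (eT i), fun i j => hdeg' _ j, ?_⟩
      have hzero : w₁ = 0 := funext fun j => by
        have h1 := congrFun hw₁top j
        have h2 : homogeneousComponent 0 (w₁ j) = w₁ j := by
          rw [homogeneousComponent_zero]
          exact (totalDegree_eq_zero_iff_eq_C.mp (Nat.le_zero.mp (hw₁d j))).symm
        exact h2.symm.trans h1
      rw [hw₁, sub_eq_zero] at hzero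
      rw [hzero]
      exact (Fintype.sum_equiv eT _ _ fun i => rfl).symm
    · obtain ⟨d', rfl⟩ := Nat.exists_eq_succ_of_ne_zero hd.ne'
      obtain ⟨h₂, hh₂, hsum⟩ := ih d' (Nat.lt_succ_self d') w₁ hw₁N
        fun j => totalDegree_le_pred (hw₁d j) (congrFun hw₁top j)
      refine ⟨fun i => h₂ i + h' (eT i), fun i j => ?_, ?_⟩
      · rw [add_mul]
        exact (totalDegree_add _ _).trans (max_le ((hh₂ i j).trans (Nat.le_succ _)) (hdeg' _ j))
      · simp only [add_smul, Finset.sum_add_distrib]
        rw [← hsum, hw₁, Fintype.sum_equiv eT (fun i => h' (eT i) • ww (eT i)) (fun z => h' z • ww z)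
          fun i => rfl, sub_add_cancel]

end Groth.Agent.H24Val
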