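import Groth.Agent.H24Val.Saturated
import Mathlib.FieldTheory.Minpoly.Field
import Mathlib.RingTheory.Localization.Integral
import Mathlib.RingTheory.Localization.FractionRing
import Mathlib.Algebra.Polynomial.Div
import Mathlib.Algebra.Polynomial.Reverse
import Mathlib.RingTheory.IntegralClosure.IntegrallyClosed

/-!
Algebraic extensions of a complete valuation ring of height one: the valuation extends uniquely.
-/

universe u v

open Polynomial IsLocalRing

namespace Groth.Agent.H24Val

variable {R : Type u} [CommRing R] [IsDomain R] [PreValuationRing R] [IsLocalRing R]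
  [Ring.KrullDimLE 1 R] {t : R}

omit [IsDomain R] [PreValuationRing R] [IsLocalRing R] [Ring.KrullDimLE 1 R] in
theorem degree_C_mul_le' (c : R) (p : R[X]) : (C c * p).degree ≤ p.degree := by
  refine (degree_mul_le _ _).trans ?_
  calc (C c).degree + p.degree ≤ 0 + p.degree := add_le_add degree_C_le le_rfl
    _ = p.degree := zero_add _

omit [IsDomain R] [PreValuationRing R] [Ring.KrullDimLE 1 R] in
/-- One step of Hensel's factorisation. -/
theorem hensel_step {q h u : R[X]} {c v u₀ : R} {j n m : ℕ} (hh : h.Monic) (hj : h.natDegree = j)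
    (hjn : j ≤ n) (hq : q.natDegree ≤ n) (hu : u.natDegree ≤ n - j) (huc : C c ∣ u - C u₀)
    (hv : v * u₀ = 1) (hE : C (c ^ (m + 1)) ∣ q - h * u) :
    ∃ h' u' : R[X], h'.Monic ∧ h'.natDegree = j ∧ u'.natDegree ≤ n - j ∧ C c ∣ u' - C u₀ ∧
      C (c ^ (m + 1 + 1)) ∣ q - h' * u' ∧ C (c ^ (m + 1)) ∣ h' - h ∧ C (c ^ (m + 1)) ∣ u' - u := by
  classical
  rcases eq_or_ne (c ^ (m + 1)) 0 with hc0 | hc0
  · refine ⟨h, u, hh, hj, hu, huc, ?_, ?_, ?_⟩
    · rw [pow_succ, hc0, zero_mul]; rwa [hc0] at hE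
    · rw [hc0, sub_self]; simp
    · rw [hc0, sub_self]; simp
  obtain ⟨E₀, hE₀⟩ := hE
  obtain ⟨E, hE'deg, hE'⟩ : ∃ E : R[X], E.natDegree ≤ n ∧ q - h * u = C (c ^ (m + 1)) * E := by
    refine ⟨∑ i ∈ Finset.range (n + 1), monomial i (E₀.coeff i), ?_, ?_⟩
    · refine natDegree_sum_le_of_forall_le _ _ fun i hi => (natDegree_monomial_le _).trans ?_
      exact Nat.lt_succ_iff.mp (Finset.mem_range.mp hi)
    · refine Polynomial.ext fun i => ?_
      rw [coeff_C_mul, finset_sum_coeff]
      rcases Nat.lt_or_ge i (n + 1) with hi | hi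
      · rw [Finset.sum_eq_single i (fun b _ hb => coeff_monomial_of_ne _ hb.symm)
          (fun h => absurd (Finset.mem_range.mpr hi) h), coeff_monomial_same, hE₀, coeff_C_mul]
      · have hdeg : (q - h * u).natDegree ≤ n := by
          refine (natDegree_sub_le _ _).trans (max_le hq ?_)
          refine natDegree_mul_le.trans ?_
          omega
        rw [coeff_eq_zero_of_natDegree_lt (by omega), Finset.sum_eq_zero fun b hb => ?_, mul_zero]
        refine coeff_monomial_of_ne _ fun e => ?_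
        have := Finset.mem_range.mp hb
        omega
  set a := E /ₘ h with ha
  set b := E %ₘ h with hb
  have hE2 : E = b + h * a := (modByMonic_add_div E h).symm
  have hadeg : a.natDegree ≤ n - j := by
    rw [ha, natDegree_divByMonic _ hh, hj]
    omega
  have hbdeg : b.degree < h.degree := degree_modByMonic_lt _ hh
  refine ⟨h + C (c ^ (m + 1) * v) * b, u + C (c ^ (m + 1)) * a, ?_, ?_, ?_, ?_, ?_, ?_, ?_⟩
  · exact hh.add_of_left ((degree_C_mul_le' _ _).trans_lt hbdeg)
  · rw [natDegree_eq_of_degree_eq (degree_add_eq_left_of_degree_lt ((degree_C_mul_le' _ _).trans_lt hbdeg)), hj]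
  · exact (natDegree_add_le _ _).trans (max_le hu ((natDegree_C_mul_le _ _).trans hadeg))
  · rw [add_sub_right_comm]
    refine dvd_add huc (Dvd.dvd.mul_right ?_ _)
    rw [pow_succ', map_mul]
    exact dvd_mul_right _ _
  · obtain ⟨w, hw⟩ := huc
    refine ⟨-(C v * b * w) - C (c ^ m * v) * b * a, ?_⟩
    have hu' : u = C u₀ + C c * w := by rw [← hw]; ring
    have hcu : C v * C u₀ = (1 : R[X]) := by rw [← map_mul, hv, map_one]
    simp only [map_mul, map_pow] at hE' ⊢
    linear_combination hE' + C c ^ (m + 1) * hE2 - C c ^ (m + 1) * b * hcu -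
      C c ^ (m + 1) * C v * b * hu'
  · rw [add_sub_cancel_left, map_mul, mul_assoc]
    exact dvd_mul_right _ _
  · rw [add_sub_cancel_left]
    exact dvd_mul_right _ _

theorem exists_factor [IsAdicComplete (Ideal.span {t}) R] (ht0 : t ≠ 0) {q : R[X]} {j : ℕ}
    (hjn : j < q.natDegree) (hju : IsUnit (q.coeff j)) (hjm : ∀ i, j < i → q.coeff i ∈ maximalIdeal R) :
    ∃ H U : R[X], H.Monic ∧ H.natDegree = j ∧ q = H * U := by
  classical
  have ht := t_mem_maximalIdeal (R := R) (t := t)
  set n := q.natDegree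
  obtain ⟨c, hcS, hcd⟩ := exists_dvd_all
    (insert t ((Finset.Ioc j n).image fun i => q.coeff i)) (Finset.insert_nonempty _ _)
  have hcm : c ∈ maximalIdeal R := by
    rcases Finset.mem_insert.mp hcS with rfl | h
    · exact ht
    · obtain ⟨i, hi, rfl⟩ := Finset.mem_image.mp h
      exact hjm i (Finset.mem_Ioc.mp hi).1
  obtain ⟨v, hv⟩ := isUnit_iff_exists_inv'.mp hju
  set u₀ := q.coeff j
  let r : R[X] := ∑ i ∈ Finset.range j, monomial i (v * q.coeff i)
  have hrdeg : r.degree < (X ^ j : R[X]).degree := by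
    rw [degree_X_pow]
    refine (degree_sum_le _ _).trans_lt ?_
    rw [Finset.sup_lt_iff (WithBot.bot_lt_coe _)]
    exact fun i hi => (degree_monomial_le _ _).trans_lt (WithBot.coe_lt_coe.mpr (Finset.mem_range.mp hi))
  let h₀ : R[X] := X ^ j + r
  have hh₀ : h₀.Monic := (monic_X_pow j).add_of_left hrdeg
  have hh₀deg : h₀.natDegree = j := by
    rw [natDegree_eq_of_degree_eq (degree_add_eq_left_of_degree_lt hrdeg), natDegree_X_pow]
  have hbase : C (c ^ 1) ∣ q - h₀ * C u₀ := by
    rw [pow_one, C_dvd_iff_dvd_coeff]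
    intro i
    rw [coeff_sub, coeff_mul_C, coeff_add, coeff_X_pow, finset_sum_coeff]
    rcases lt_trichotomy i j with hi | rfl | hi
    · rw [if_neg hi.ne, zero_add, Finset.sum_eq_single i (fun b _ hb => coeff_monomial_of_ne _ hb.symm)
        (fun h => absurd (Finset.mem_range.mpr hi) h), coeff_monomial_same,
        show v * q.coeff i * u₀ = q.coeff i * (v * u₀) by ring, hv, mul_one, sub_self]
      exact dvd_zero c
    · rw [if_pos rfl, Finset.sum_eq_zero (fun b hb => coeff_monomial_of_ne _ (by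
        have := Finset.mem_range.mp hb; omega)), add_zero, one_mul, sub_self]
      exact dvd_zero c
    · rw [if_neg (by omega), zero_add, Finset.sum_eq_zero (fun b hb => coeff_monomial_of_ne _ (by
        have := Finset.mem_range.mp hb; omega)), zero_mul, sub_zero]
      rcases Nat.lt_or_ge n i with hin | hin
      · rw [coeff_eq_zero_of_natDegree_lt hin]; exact dvd_zero c
      · exact hcd _ (Finset.mem_insert_of_mem (Finset.mem_image_of_mem _ (Finset.mem_Ioc.mpr ⟨hi, hin⟩)))
  let St : ℕ → Type u := fun m => {p : R[X] × R[X] // p.1.Monic ∧ p.1.natDegree = j ∧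
    p.2.natDegree ≤ n - j ∧ C c ∣ p.2 - C u₀ ∧ C (c ^ (m + 1)) ∣ q - p.1 * p.2}
  have step : ∀ m (p : St m), ∃ p' : St (m + 1),
      C (c ^ (m + 1)) ∣ p'.1.1 - p.1.1 ∧ C (c ^ (m + 1)) ∣ p'.1.2 - p.1.2 := by
    rintro m ⟨⟨h, u⟩, h1, h2, h3, h4, h5⟩
    obtain ⟨h', u', g1, g2, g3, g4, g5, g6, g7⟩ := hensel_step h1 h2 hjn.le le_rfl h3 h4 hv h5
    exact ⟨⟨(h', u'), g1, g2, g3, g4, g5⟩, g6, g7⟩
  choose nx hnx₁ hnx₂ using step
  let f : ∀ m, St m := Nat.rec (motive := St)
    ⟨(h₀, C u₀), hh₀, hh₀deg, by simp, by simp, hbase⟩ (fun m p => nx m p)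
  have hchain : ∀ a b, a ≤ b → C (c ^ (a + 1)) ∣ (f b).1.1 - (f a).1.1 ∧
      C (c ^ (a + 1)) ∣ (f b).1.2 - (f a).1.2 := by
    intro a b hab
    induction b, hab using Nat.le_induction with
    | base => simp
    | succ b hab ih =>
      have hdvd : C (c ^ (a + 1)) ∣ C (c ^ (b + 1)) := (map_dvd C (pow_dvd_pow c (Nat.succ_le_succ hab)))
      constructor
      · rw [← sub_add_sub_cancel _ (f b).1.1]
        exact dvd_add (hdvd.trans (hnx₁ b (f b))) ih.1
      · rw [← sub_add_sub_cancel _ (f b).1.2]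
        exact dvd_add (hdvd.trans (hnx₂ b (f b))) ih.2
  obtain ⟨N, hN⟩ := exists_pow_dvd ht0 hcm
  have hmem : ∀ (i : ℕ) {M : ℕ} {w : R[X]}, C (c ^ (N * M + 1)) ∣ w →
      w.coeff i ∈ (Ideal.span {t}) ^ M := by
    intro i M w hw
    rw [Ideal.span_singleton_pow, Ideal.mem_span_singleton]
    refine (pow_dvd_pow_of_dvd hN M).trans ?_
    rw [← pow_mul]
    exact (pow_dvd_pow c (Nat.le_succ _)).trans ((C_dvd_iff_dvd_coeff _ _).mp hw i)
  have hex : ∀ g : ℕ → R[X], (∀ a b, a ≤ b → C (c ^ (a + 1)) ∣ g b - g a) → ∀ i, ∃ L : R,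
      ∀ M, (g (N * M)).coeff i - L ∈ (Ideal.span {t}) ^ M := by
    intro g hg i
    obtain ⟨L, hL⟩ := IsPrecomplete.prec (I := Ideal.span {t}) inferInstance
      (f := fun M => (g (N * M)).coeff i) (fun {a b} hab => by
        rw [SModEq.sub_mem, smul_eq_mul, Ideal.mul_top, ← neg_mem_iff, neg_sub, ← coeff_sub]
        exact hmem i (hg _ _ (Nat.mul_le_mul_left N hab)))
    exact ⟨L, fun M => by simpa [SModEq.sub_mem] using hL M⟩
  choose LH hLH using hex (fun m => (f m).1.1) (fun a b h => (hchain a b h).1)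
  choose LU hLU using hex (fun m => (f m).1.2) (fun a b h => (hchain a b h).2)
  have hzero : ∀ x : R, (∀ M, x ∈ (Ideal.span {t}) ^ M) → x = 0 := fun x hx =>
    IsHausdorff.haus (I := Ideal.span {t}) inferInstance x fun M => by
      rw [SModEq.zero, smul_eq_mul, Ideal.mul_top]; exact hx M
  have hLHj : LH j = 1 := sub_eq_zero.mp (hzero _ fun M => by
    have h1 : (f (N * M)).1.1.coeff j = 1 := by
      have h2 := (f (N * M)).2.1.coeff_natDegree
      rwa [(f (N * M)).2.2.1] at h2
    rw [← neg_mem_iff, neg_sub, ← h1]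
    exact hLH j M)
  let H : R[X] := ∑ i ∈ Finset.range (j + 1), monomial i (LH i)
  let U : R[X] := ∑ i ∈ Finset.range (n - j + 1), monomial i (LU i)
  have hHdeg : H.natDegree ≤ j := natDegree_sum_le_of_forall_le _ _ fun i hi =>
    (natDegree_monomial_le _).trans (Nat.lt_succ_iff.mp (Finset.mem_range.mp hi))
  have hHj : H.coeff j = 1 := by
    rw [finset_sum_coeff, Finset.sum_eq_single j (fun b _ hb => coeff_monomial_of_ne _ hb.symm)
      (fun h => absurd (Finset.self_mem_range_succ j) h), coeff_monomial_same, hLHj]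
  refine ⟨H, U, monic_of_natDegree_le_of_coeff_eq_one j hHdeg hHj,
    natDegree_eq_of_le_of_coeff_ne_zero hHdeg (by rw [hHj]; exact one_ne_zero),
    sub_eq_zero.mp (Polynomial.ext fun i => hzero _ fun M => ?_)⟩
  have hco : ∀ (g : R[X]) (d : ℕ) (L : ℕ → R), g.natDegree ≤ d →
      (∀ i, g.coeff i - L i ∈ (Ideal.span {t}) ^ M) → ∀ i,
        (g - ∑ i ∈ Finset.range (d + 1), monomial i (L i)).coeff i ∈ (Ideal.span {t}) ^ M := by
    intro g d L hg hL i
    rw [coeff_sub, finset_sum_coeff]
    rcases Nat.lt_or_ge i (d + 1) with hi | hi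
    · rw [Finset.sum_eq_single i (fun b _ hb => coeff_monomial_of_ne _ hb.symm)
        (fun h => absurd (Finset.mem_range.mpr hi) h), coeff_monomial_same]
      exact hL i
    · rw [coeff_eq_zero_of_natDegree_lt (by omega), Finset.sum_eq_zero fun b hb => coeff_monomial_of_ne _ (by
        have := Finset.mem_range.mp hb; omega), sub_zero]
      exact zero_mem _
  obtain ⟨-, h2, h3, -, h5⟩ := (f (N * M)).2
  have e1 := hco (f (N * M)).1.1 j LH h2.le (fun i => hLH i M)
  have e2 := hco (f (N * M)).1.2 (n - j) LU h3 (fun i => hLU i M)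
  rw [show q - H * U = (q - (f (N * M)).1.1 * (f (N * M)).1.2) + (((f (N * M)).1.1 - H) * (f (N * M)).1.2 +
    H * ((f (N * M)).1.2 - U)) by ring, coeff_add, coeff_add]
  refine add_mem (hmem i h5) (add_mem ?_ ?_)
  · rw [coeff_mul]; exact Submodule.sum_mem _ fun x _ => Ideal.mul_mem_right _ _ (e1 _)
  · rw [coeff_mul]; exact Submodule.sum_mem _ fun x _ => Ideal.mul_mem_left _ _ (e2 _)

variable [IsAdicComplete (Ideal.span {t}) R]
variable {K : Type u} [Field K] [Algebra R K] [IsFractionRing R K]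

theorem coeff_mem_range_of_irreducible (ht0 : t ≠ 0) {p : K[X]} (hp : p.Monic) (hirr : Irreducible p)
    (h0 : p.coeff 0 ∈ (algebraMap R K).range) : ∀ i, p.coeff i ∈ (algebraMap R K).range := by
  classical
  have ht := t_mem_maximalIdeal (R := R) (t := t)
  have hinj := IsFractionRing.injective R K
  obtain ⟨⟨b, hb0⟩, hb⟩ := IsLocalization.integerNormalization_map_to_map (nonZeroDivisors R) p
  set q₀ := IsLocalization.integerNormalization (nonZeroDivisors R) p
  simp only at hb
  have hn : ∀ i, algebraMap R K (q₀.coeff i) = algebraMap R K b * p.coeff i := fun i => by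
    rw [← coeff_map, hb, coeff_smul, Algebra.smul_def]
  set n := p.natDegree
  have hb0' : b ≠ 0 := nonZeroDivisors.ne_zero hb0
  have hq₀n : q₀.coeff n = b := hinj (by rw [hn, hp.coeff_natDegree, mul_one])
  obtain ⟨e, heS, hed⟩ := exists_dvd_all ((Finset.range (n + 1)).image fun i => q₀.coeff i)
    ⟨_, Finset.mem_image_of_mem _ (Finset.self_mem_range_succ n)⟩
  obtain ⟨i₀, hi₀, hi₀e⟩ := Finset.mem_image.mp heS
  have he0 : e ≠ 0 := fun h => hb0' (by
    have := hed _ (Finset.mem_image_of_mem _ (Finset.self_mem_range_succ n))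
    rw [h, zero_dvd_iff] at this
    exact hq₀n ▸ this)
  have hdvd : ∀ i, e ∣ q₀.coeff i := fun i => by
    rcases Nat.lt_or_ge i (n + 1) with hi | hi
    · exact hed _ (Finset.mem_image_of_mem _ (Finset.mem_range.mpr hi))
    · rw [show q₀.coeff i = 0 from hinj (by
        rw [hn, coeff_eq_zero_of_natDegree_lt (by omega), mul_zero, map_zero])]
      exact dvd_zero e
  choose qc hqc using hdvd
  by_cases hu : IsUnit (qc n)
  · obtain ⟨w, hw⟩ := hu
    intro i
    refine ⟨qc i * (w⁻¹ : Rˣ), ?_⟩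
    have hbne : algebraMap R K b ≠ 0 := (map_ne_zero_iff _ hinj).mpr hb0'
    refine mul_left_cancel₀ hbne ?_
    rw [← hn, hqc i, ← map_mul]
    congr 1
    rw [← hq₀n, hqc n, ← hw]
    linear_combination (qc i * e) * (Units.mul_inv w)
  exfalso
  let q : R[X] := ∑ i ∈ Finset.range (n + 1), monomial i (qc i)
  have hqcoeff : ∀ i, q.coeff i = if i < n + 1 then qc i else 0 := fun i => by
    rw [finset_sum_coeff]
    split_ifs with hi
    · rw [Finset.sum_eq_single i (fun b _ hb => coeff_monomial_of_ne _ hb.symm)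
        (fun h => absurd (Finset.mem_range.mpr hi) h), coeff_monomial_same]
    · exact Finset.sum_eq_zero fun b hb => coeff_monomial_of_ne _ (by
        have := Finset.mem_range.mp hb; omega)
  have hqp : ∀ i, algebraMap R K (q.coeff i) * algebraMap R K e = algebraMap R K b * p.coeff i := fun i => by
    rw [hqcoeff, ← map_mul]
    split_ifs with hi
    · rw [← hn, hqc i, mul_comm]
    · rw [zero_mul, map_zero, coeff_eq_zero_of_natDegree_lt (by omega), mul_zero]
  have hqn : q.coeff n = qc n := by rw [hqcoeff, if_pos (Nat.lt_succ_self n)]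
  have hqn0 : q.coeff n ≠ 0 := fun h => hb0' (hinj (by
    have := hqp n
    rw [h, map_zero, zero_mul, hp.coeff_natDegree, mul_one] at this
    rw [map_zero]; exact this.symm))
  have hqdeg : q.natDegree = n := natDegree_eq_of_le_of_coeff_ne_zero
    (natDegree_sum_le_of_forall_le _ _ fun i hi => (natDegree_monomial_le _).trans
      (Nat.lt_succ_iff.mp (Finset.mem_range.mp hi))) hqn0
  have hqnm : q.coeff n ∈ maximalIdeal R := by rw [hqn]; exact (mem_maximalIdeal _).mpr hu
  have hq0m : q.coeff 0 ∈ maximalIdeal R := by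
    obtain ⟨a, ha⟩ := h0
    have h2 : q.coeff 0 = q.coeff n * a := hinj (mul_right_cancel₀ ((map_ne_zero_iff _ hinj).mpr he0) (by
      rw [hqp, map_mul, mul_right_comm, hqp n, hp.coeff_natDegree, mul_one, ha]))
    rw [h2]
    exact Ideal.mul_mem_right _ _ hqnm
  let T := (Finset.range (n + 1)).filter fun i => IsUnit (q.coeff i)
  have hT : T.Nonempty := by
    refine ⟨i₀, Finset.mem_filter.mpr ⟨hi₀, ?_⟩⟩
    rw [hqcoeff, if_pos (Finset.mem_range.mp hi₀)]
    have h3 := hqc i₀
    rw [hi₀e] at h3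
    exact IsUnit.of_mul_eq_one (a := qc i₀) 1 (by
      rw [mul_one]; exact (mul_left_cancel₀ he0 ((mul_one e).trans h3)).symm)
  set j := T.max' hT
  obtain ⟨hjr, hju⟩ := Finset.mem_filter.mp (T.max'_mem hT)
  have hjm : ∀ i, j < i → q.coeff i ∈ maximalIdeal R := fun i hi => by
    rcases Nat.lt_or_ge i (n + 1) with h | h
    · rw [mem_maximalIdeal, mem_nonunits_iff]
      intro hiu
      exact absurd (T.le_max' i (Finset.mem_filter.mpr ⟨Finset.mem_range.mpr h, hiu⟩)) (not_le.mpr hi)
    · rw [hqcoeff, if_neg (by omega)]; exact zero_mem _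
  have hj0 : j ≠ 0 := fun h => (mem_maximalIdeal _).mp hq0m (h ▸ hju)
  have hjn : j < n := lt_of_le_of_ne (Nat.lt_succ_iff.mp (Finset.mem_range.mp hjr))
    (fun h => (mem_maximalIdeal _).mp hqnm (h ▸ hju))
  obtain ⟨H, U, hH, hHj, hqHU⟩ := exists_factor (t := t) ht0 (hqdeg ▸ hjn) hju hjm
  have hdvdp : H.map (algebraMap R K) ∣ p := by
    refine Dvd.intro (C (algebraMap R K b)⁻¹ * C (algebraMap R K e) * U.map (algebraMap R K)) ?_
    refine Polynomial.ext fun i => ?_
    rw [show H.map (algebraMap R K) * (C (algebraMap R K b)⁻¹ * C (algebraMap R K e) * U.map (algebraMap R K)) =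
      C ((algebraMap R K b)⁻¹ * algebraMap R K e) * q.map (algebraMap R K) by
        rw [hqHU, Polynomial.map_mul, map_mul]; ring, coeff_C_mul, coeff_map, mul_assoc,
      mul_comm (algebraMap R K e), hqp, inv_mul_cancel_left₀ ((map_ne_zero_iff _ hinj).mpr hb0')]
  rcases hirr.isUnit_or_isUnit hdvdp.choose_spec with h | h
  · have h4 := natDegree_eq_zero_of_isUnit h
    rw [hH.natDegree_map, hHj] at h4
    exact hj0 h4
  · have h4 := congrArg natDegree hdvdp.choose_spec
    rw [natDegree_mul (hH.map _).ne_zero h.ne_zero, natDegree_eq_zero_of_isUnit h, add_zero,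
      hH.natDegree_map, hHj] at h4
    omega

variable {L : Type u} [Field L] [Algebra R L] [Algebra K L] [IsScalarTower R K L]

theorem isIntegral_of_coeff_zero (ht0 : t ≠ 0) {x : L} (hx : IsIntegral K x)
    (h0 : (minpoly K x).coeff 0 ∈ (algebraMap R K).range) : IsIntegral R x := by
  obtain ⟨p, hp, hdeg, hmonic⟩ := Polynomial.lifts_and_degree_eq_and_monic
    ((Polynomial.lifts_iff_coeff_lifts _).mpr fun i =>
      coeff_mem_range_of_irreducible (t := t) ht0 (minpoly.monic hx) (minpoly.irreducible hx) h0 i)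
    (minpoly.monic hx)
  refine ⟨p, hmonic, ?_⟩
  rw [← Polynomial.aeval_def, ← Polynomial.aeval_map_algebraMap K, hp, minpoly.aeval]

theorem isIntegral_or_isIntegral_inv (ht0 : t ≠ 0) {x : L} (hx : IsIntegral K x) :
    IsIntegral R x ∨ IsIntegral R x⁻¹ := by
  by_cases hx0 : x = 0
  · exact Or.inl (hx0 ▸ isIntegral_zero)
  haveI : ValuationRing R := { }
  rcases ValuationRing.isInteger_or_isInteger R ((minpoly K x).coeff 0) with h | h
  · exact Or.inl (isIntegral_of_coeff_zero (t := t) ht0 hx h)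
  · refine Or.inr (isIntegral_of_coeff_zero (t := t) (K := K) ht0 hx.inv ?_)
    letI := invertibleOfNonzero hx0
    have hp0 : (minpoly K x).coeff 0 ≠ 0 := minpoly.coeff_zero_ne_zero hx hx0
    have hq : C ((minpoly K x).coeff 0)⁻¹ * (minpoly K x).reverse = minpoly K x⁻¹ := by
      refine minpoly.unique K x⁻¹ ?_ ?_ fun g hg hg0 => ?_
      · rw [Monic, leadingCoeff_mul, leadingCoeff_C, reverse_leadingCoeff,
          trailingCoeff, natTrailingDegree_eq_zero.mpr (Or.inr hp0), inv_mul_cancel₀ hp0]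
      · have h5 : eval₂ (algebraMap K L) x (minpoly K x) = 0 := minpoly.aeval K x
        rw [map_mul, aeval_def _ (minpoly K x).reverse, ← invOf_eq_inv,
          (eval₂_reverse_eq_zero_iff (algebraMap K L) x _).mpr h5, mul_zero]
      · letI := invertibleOfNonzero (inv_ne_zero hx0)
        have h1 : aeval x g.reverse = 0 := by
          have h2 := (eval₂_reverse_eq_zero_iff (algebraMap K L) x⁻¹ g).mpr hg0
          rwa [invOf_eq_inv, inv_inv] at h2
        have hgr : g.reverse ≠ 0 := fun h => one_ne_zero (α := K) (by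
          rw [← hg.leadingCoeff, ← coeff_zero_reverse, h, coeff_zero])
        have h3 : (minpoly K x).natDegree ≤ g.natDegree :=
          (natDegree_le_natDegree (minpoly.degree_le_of_ne_zero K x hgr h1)).trans (reverse_natDegree_le g)
        rw [degree_C_mul (inv_ne_zero hp0), degree_eq_natDegree hg.ne_zero]
        exact degree_le_natDegree.trans (WithBot.coe_le_coe.mpr ((reverse_natDegree_le _).trans h3))
    rw [← hq, coeff_C_mul, coeff_zero_reverse, (minpoly.monic hx).leadingCoeff, mul_one]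
    exact h

end Groth.Agent.H24Val
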