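import Groth.Agent.H24Val.Transfer
import Groth.Agent.H24Val.Extension
import Mathlib.RingTheory.Jacobson.Ring
import Mathlib.FieldTheory.Minpoly.IsIntegrallyClosed
import Mathlib.RingTheory.IntegralClosure.IsIntegralClosure.Basic

/-!
Admissible local domains of dimension one over a complete valuation ring of height one.
-/

universe u

open Polynomial IsLocalRing

namespace Groth.Agent.H24Val

open AdicRing

variable {R : Type u} [CommRing R] [IsDomain R] [PreValuationRing R] [Ring.KrullDimLE 1 R] {t : R}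
  [IsAdicComplete (Ideal.span {t}) R]
variable {B : Type u} [CommRing B] [Algebra R B]

omit [PreValuationRing R] [Ring.KrullDimLE 1 R] in
theorem not_isUnit_t [Nontrivial B] (hB : TopFiniteType R (Ideal.span {t}) B) :
    ¬ IsUnit (algebraMap R B t) := by
  intro hu
  obtain ⟨n, φ, hφ⟩ := hB
  obtain ⟨c, hc⟩ := isUnit_iff_exists_inv.mp hu
  obtain ⟨s, hs⟩ := hφ c
  haveI := AdicCompletion.isAdicComplete_self _ (fg_J (R := R) (t := t) (n := n))
  have hj : algebraMap R (RPow R (Ideal.span {t}) n) t ∈ (⊥ : Ideal (RPow R (Ideal.span {t}) n)).jacobson := by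
    refine IsAdicComplete.le_jacobson_bot (((Ideal.span {t}).map (MvPolynomial.C : R →+* MvPolynomial (Fin n) R)).map
      (algebraMap (MvPolynomial (Fin n) R) (RPow R (Ideal.span {t}) n))) ?_
    exact Ideal.mem_map_of_mem _ (Ideal.mem_map_of_mem _ (Ideal.mem_span_singleton_self t))
  have h1 := (Ideal.mem_jacobson_bot.mp hj (-s)).map φ
  rw [map_add, map_mul, map_neg, hs, φ.commutes, map_one, mul_neg, hc, neg_add_cancel] at h1
  exact not_isUnit_zero h1

variable [IsDomain B]

omit [PreValuationRing R] [Ring.KrullDimLE 1 R] [IsAdicComplete (Ideal.span {t}) R] [IsDomain R] in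
theorem t_ne_zero (hT : NoPowTorsion (Ideal.span {t}) B) : algebraMap R B t ≠ 0 := by
  intro h0
  refine one_ne_zero (hT (1 : B) 1 fun a ha => ?_)
  rw [pow_one, Ideal.mem_span_singleton'] at ha
  obtain ⟨b, rfl⟩ := ha
  rw [Algebra.smul_def, mul_one, map_mul, h0, mul_zero]

theorem injective_algebraMap (hT : NoPowTorsion (Ideal.span {t}) B) :
    Function.Injective (algebraMap R B) := by
  haveI := isLocalRing_of_pre R
  rw [injective_iff_map_eq_zero]
  intro a ha
  by_contra ha0
  obtain ⟨N, b, hb⟩ := exists_pow_dvd ha0 (t_mem_maximalIdeal (R := R) (t := t))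
  refine t_ne_zero hT (pow_eq_zero_iff'.mp (show algebraMap R B t ^ N = 0 from ?_)).1
  rw [← map_pow, hb, map_mul, ha, zero_mul]

omit [Algebra R B] in
theorem mem_radical_span [IsLocalRing B] (hdim : ringKrullDim B ≤ 1) {x : B} (hx : x ≠ 0) {y : B}
    (hy : y ∈ maximalIdeal B) : y ∈ (Ideal.span {x}).radical := by
  haveI : Ring.KrullDimLE 1 B := Ring.krullDimLE_iff.mpr hdim
  rw [Ideal.radical_eq_sInf, Submodule.mem_sInf]
  rintro P ⟨hle, hP⟩
  rw [IsLocalRing.eq_maximalIdeal ((Ring.krullDimLE_one_iff_of_noZeroDivisors.mp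
    (inferInstance : Ring.KrullDimLE 1 B)) P (fun h => hx (by
      have := hle (Ideal.mem_span_singleton_self x)
      rwa [h, Ideal.mem_bot] at this)) hP)]
  exact hy

theorem finite_of_admissible_local [IsLocalRing B] (ht0 : t ≠ 0)
    (hB : TopFiniteType R (Ideal.span {t}) B) (hT : NoPowTorsion (Ideal.span {t}) B)
    (hdim : ringKrullDim B ≤ 1) : Module.Finite R B := by
  classical
  haveI := isLocalRing_of_pre R
  have hbase : IsBase R (Ideal.span {t}) := ⟨‹_›, Or.inr ⟨‹_›, ‹_›, ‹_›, t, ht0, rfl⟩⟩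
  haveI : IsAdicComplete (Ideal.span {t}) B := isAdicComplete_topFinite (A := B) (M := B) hbase hB
  have htB : algebraMap R B t ∈ maximalIdeal B := (mem_maximalIdeal _).mpr (not_isUnit_t hB)
  obtain ⟨n, φ, hφ⟩ := hB
  let J : Ideal B := Ideal.span {algebraMap R B t}
  let θ : MvPolynomial (Fin n) R →ₐ[R] B ⧸ J :=
    (Ideal.Quotient.mkₐ R J).comp (φ.comp (IsScalarTower.toAlgHom R (MvPolynomial (Fin n) R) _))
  have hθ : Function.Surjective θ := by
    intro z
    obtain ⟨b, rfl⟩ := Ideal.Quotient.mk_surjective z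
    obtain ⟨x, rfl⟩ := hφ b
    obtain ⟨p, y, hp⟩ := exists_poly_approx x 1
    refine ⟨p, Ideal.Quotient.eq.mpr ?_⟩
    change φ (algebraMap _ _ p) - φ x ∈ J
    rw [← neg_mem_iff, neg_sub, ← map_sub, hp, map_smul, pow_one, Algebra.smul_def]
    exact Ideal.mul_mem_right _ _ (Ideal.mem_span_singleton_self _)
  haveI : Algebra.FiniteType R (B ⧸ J) := Algebra.FiniteType.of_surjective θ hθ
  let m := maximalIdeal B
  let k₀ : Ideal R := m.comap (algebraMap R B)
  haveI hk₀ : k₀.IsMaximal := by
    refine (Ring.krullDimLE_one_iff_of_noZeroDivisors.mp (inferInstance : Ring.KrullDimLE 1 R)) k₀ ?_ inferInstance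
    exact fun h => ht0 (Ideal.mem_bot.mp (h ▸ (Ideal.mem_comap.mpr htB : t ∈ k₀)))
  letI := Ideal.Quotient.field k₀
  letI := Ideal.Quotient.field m
  letI : Algebra (R ⧸ k₀) (B ⧸ m) := (Ideal.quotientMap m (algebraMap R B) le_rfl).toAlgebra
  haveI : IsScalarTower R (R ⧸ k₀) (B ⧸ m) := IsScalarTower.of_algebraMap_eq fun r => rfl
  have hJm : J ≤ m := (Ideal.span_singleton_le_iff_mem _).mpr htB
  haveI : Algebra.FiniteType R (B ⧸ m) := Algebra.FiniteType.of_surjective
    ((Ideal.Quotient.factorₐ R hJm).comp θ)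
    ((Ideal.Quotient.factor_surjective hJm).comp hθ)
  haveI : Algebra.FiniteType (R ⧸ k₀) (B ⧸ m) := Algebra.FiniteType.of_restrictScalars_finiteType R _ _
  haveI := finite_of_finite_type_of_isJacobsonRing (R ⧸ k₀) (B ⧸ m)
  haveI : Algebra.IsIntegral R (B ⧸ J) := ⟨fun z => by
    obtain ⟨b, rfl⟩ := Ideal.Quotient.mk_surjective z
    obtain ⟨q, hq, hq0⟩ := Algebra.IsIntegral.isIntegral (R := R ⧸ k₀) (Ideal.Quotient.mk m b)
    obtain ⟨p, hp, -, hpm⟩ := Polynomial.lifts_and_degree_eq_and_monic
      ((Polynomial.lifts_iff_coeff_lifts (f := Ideal.Quotient.mk k₀) q).mpr fun i =>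
        Ideal.Quotient.mk_surjective (q.coeff i)) hq
    have hmem : Polynomial.aeval b p ∈ m := by
      rw [← Ideal.Quotient.eq_zero_iff_mem, ← Ideal.Quotient.mkₐ_eq_mk R, ← Polynomial.aeval_algHom_apply,
        ← Polynomial.aeval_map_algebraMap (R ⧸ k₀)]
      change Polynomial.aeval (Ideal.Quotient.mk m b) (p.map (Ideal.Quotient.mk k₀)) = 0
      rw [hp]; exact hq0
    obtain ⟨N, hN⟩ := mem_radical_span hdim (t_ne_zero hT) hmem
    refine ⟨p ^ N, hpm.pow N, ?_⟩
    rw [← Polynomial.aeval_def, map_pow, show Polynomial.aeval (Ideal.Quotient.mk J b) p =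
      Ideal.Quotient.mk J (Polynomial.aeval b p) from Polynomial.aeval_algHom_apply (Ideal.Quotient.mkₐ R J) b p,
      ← map_pow]
    exact Ideal.Quotient.eq_zero_iff_mem.mpr hN⟩
  haveI : Module.Finite R (B ⧸ J) := Algebra.IsIntegral.finite
  have hJ : J.restrictScalars R = (Ideal.span {t} • ⊤ : Submodule R B) := by
    rw [Ideal.smul_top_eq_map, Ideal.map_span, Set.image_singleton]
  haveI : Module.Finite R (B ⧸ (Ideal.span {t} • ⊤ : Submodule R B)) :=
    Module.Finite.equiv ((Submodule.Quotient.restrictScalarsEquiv R J).symm.trans (Submodule.quotEquivOfEq _ _ hJ))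
  exact H24Adic.finite_of_finite_quotient (Ideal.span {t})

theorem valuationRing_integralClosure (ht0 : t ≠ 0) (hT : NoPowTorsion (Ideal.span {t}) B)
    [Module.Finite R B] : ValuationRing (integralClosure B (FractionRing B)) := by
  haveI := isLocalRing_of_pre R
  haveI : FaithfulSMul R B := (faithfulSMul_iff_algebraMap_injective R B).mpr (injective_algebraMap hT)
  haveI : Algebra.IsIntegral R B := inferInstance
  haveI : FaithfulSMul R (FractionRing B) := (faithfulSMul_iff_algebraMap_injective R _).mpr (by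
    rw [IsScalarTower.algebraMap_eq R B (FractionRing B)]
    exact (IsFractionRing.injective B (FractionRing B)).comp (injective_algebraMap hT))
  letI : Algebra (FractionRing R) (FractionRing B) := FractionRing.liftAlgebra R _
  haveI := FractionRing.isScalarTower_liftAlgebra R (FractionRing B)
  haveI : Algebra.IsAlgebraic (FractionRing R) (FractionRing B) := by
    refine ⟨fun z => ?_⟩
    obtain ⟨⟨a, b⟩, hab⟩ := IsLocalization.surj (nonZeroDivisors B) z
    have hint : ∀ c : B, IsAlgebraic (FractionRing R) (algebraMap B (FractionRing B) c) := fun c =>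
      (((Algebra.IsIntegral.isIntegral (R := R) c).map (IsScalarTower.toAlgHom R B (FractionRing B))).tower_top).isAlgebraic
    have hb : algebraMap B (FractionRing B) b ≠ 0 :=
      (map_ne_zero_iff _ (IsFractionRing.injective B (FractionRing B))).mpr (nonZeroDivisors.ne_zero b.2)
    rw [show z = algebraMap B (FractionRing B) a * (algebraMap B (FractionRing B) b)⁻¹ from
      (eq_mul_inv_iff_mul_eq₀ hb).mpr hab]
    exact (hint a).mul (hint b).inv
  haveI : PreValuationRing (integralClosure B (FractionRing B)) := ⟨fun a b => by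
    by_cases ha : a = 0
    · exact ⟨0, Or.inr (by rw [ha, mul_zero])⟩
    have ha' : (a : FractionRing B) ≠ 0 := fun h => ha (Subtype.ext h)
    rcases isIntegral_or_isIntegral_inv (R := R) (t := t) (K := FractionRing R) ht0
        (x := (b : FractionRing B) / a) (Algebra.IsIntegral.isIntegral _) with h | h
    · refine ⟨⟨_, h.tower_top⟩, Or.inl (Subtype.ext ?_)⟩
      exact mul_div_cancel₀ _ ha'
    · by_cases hb : (b : FractionRing B) = 0
      · exact ⟨0, Or.inl (by rw [mul_zero]; exact (Subtype.ext hb).symm)⟩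
      refine ⟨⟨_, h.tower_top⟩, Or.inr (Subtype.ext ?_)⟩
      change (b : FractionRing B) * ((b : FractionRing B) / a)⁻¹ = a
      rw [inv_div, mul_div_cancel₀ _ hb]⟩
  exact { }

end Groth.Agent.H24Val
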