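import Groth.Agent.H24Val.PolySat
import Groth.Agent.H24Val.CompletionFlat
import Groth.Agent.H24Val.Transfer
import Mathlib.RingTheory.FiniteType

/-!
Completion of algebras of finite type over algebras topologically of finite type.
-/

universe u

open TensorProduct

set_option linter.style.haveILetI false

namespace Groth.Agent.H24Val

open AdicRing

theorem satFG_of_finiteType {R : Type u} [CommRing R] [IsDomain R] [PreValuationRing R]
    [Ring.KrullDimLE 1 R] {t : R} [IsAdicComplete (Ideal.span {t}) R] (ht0 : t ≠ 0)
    {A : Type u} [CommRing A] [Algebra R A] (hA : TopFiniteType R (Ideal.span {t}) A)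
    (B : Type u) [CommRing B] [Algebra R B] [Algebra A B] [IsScalarTower R A B]
    [Algebra.FiniteType A B] : SatFG B (algebraMap R B t) := by
  classical
  obtain ⟨n, φ, hφ⟩ := hA
  obtain ⟨m, θ, hθ⟩ := Algebra.FiniteType.iff_quotient_mvPolynomial''.mp (inferInstance : Algebra.FiniteType A B)
  let π : MvPolynomial (Fin m) (RPow R (Ideal.span {t}) n) →+* B :=
    θ.toRingHom.comp (MvPolynomial.map φ.toRingHom)
  have hπ : Function.Surjective π := hθ.comp (MvPolynomial.map_surjective _ hφ)
  have hπR : ∀ r : R, π (algebraMap R _ r) = algebraMap R B r := fun r => by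
    change θ (MvPolynomial.map φ.toRingHom (MvPolynomial.C (algebraMap R _ r))) = _
    rw [MvPolynomial.map_C, AlgHom.toRingHom_eq_coe, RingHom.coe_coe, φ.commutes, IsScalarTower.algebraMap_apply R A B]
    exact θ.commutes _
  intro s N hN
  let N' : Submodule (MvPolynomial (Fin m) (RPow R (Ideal.span {t}) n))
      (Fin s → MvPolynomial (Fin m) (RPow R (Ideal.span {t}) n)) :=
    { carrier := {x | (fun j => π (x j)) ∈ N}
      add_mem' := fun {x y} hx hy => by
        have h := N.add_mem hx hy
        simpa [Set.mem_ofPred_eq, Pi.add_def] using h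
      zero_mem' := by
        change (fun _ => π 0) ∈ N
        rw [map_zero]
        exact N.zero_mem
      smul_mem' := fun c x hx => by
        have h := N.smul_mem (π c) hx
        simpa [Set.mem_ofPred_eq, Pi.smul_def] using h }
  have hN' : N'.FG := fg_of_saturated_poly_pi ht0 N' fun x hx => hN _ <| by
    convert (show (fun j => π ((t • x) j)) ∈ N from hx) using 1
    funext j
    rw [Pi.smul_apply, Pi.smul_apply, smul_eq_mul, Algebra.smul_def t (x j), map_mul, hπR]
  obtain ⟨T, hT⟩ := hN'
  refine ⟨T.image fun x j => π (x j), le_antisymm (Submodule.span_le.mpr ?_) fun y hy => ?_⟩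
  · intro y hy
    rw [Finset.coe_image] at hy
    obtain ⟨x, hx, rfl⟩ := hy
    exact (show x ∈ N' from hT ▸ Submodule.subset_span hx)
  · choose x hx using fun j => hπ (y j)
    have hxN : x ∈ N' := by
      change (fun j => π (x j)) ∈ N
      rw [funext hx]
      exact hy
    rw [← hT, Submodule.mem_span_finset'] at hxN
    obtain ⟨c, hc⟩ := hxN
    have hy' : y = ∑ a : T, π (c a) • fun j => π ((a : Fin s → _) j) := funext fun j => by
      rw [← hx j, ← hc]
      simp [Finset.sum_apply]
    rw [hy']
    exact Submodule.sum_mem _ fun a _ => Submodule.smul_mem _ _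
      (Submodule.subset_span (Finset.mem_coe.mpr (Finset.mem_image_of_mem _ a.2)))

variable {R : Type u} [CommRing R] {I : Ideal R} {A : Type u} [CommRing A] [Algebra R A]

theorem completion_finiteType (hR : IsBase R I) (hA : TopFiniteType R I A)
    (B : Type u) [CommRing B] [Algebra R B] [Algebra A B] [IsScalarTower R A B]
    [Algebra.FiniteType A B] :
    Module.Flat B (AdicCompletion (I.map (algebraMap R B)) B) ∧
      ∀ (M : Type u) [AddCommGroup M] [Module B M], Module.Finite B M →
        Function.Bijective (AdicCompletion.ofTensorProduct (I.map (algebraMap R B)) M) := by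
  rcases hR with ⟨hc, ⟨hN, -⟩ | ⟨hdom, hpre, hdim, t, ht0, rfl⟩⟩
  · haveI : IsNoetherianRing B := by
      obtain ⟨n, φ, hφ⟩ := hA
      haveI := isNoetherianRing_rPow (R := R) (I := I) (n := n)
      haveI : IsNoetherianRing A := isNoetherianRing_of_surjective (RPow R I n) A φ.toRingHom hφ
      exact Algebra.FiniteType.isNoetherianRing A B
    exact ⟨inferInstance, fun M _ _ _ => AdicCompletion.ofTensorProduct_bijective_of_finite_of_isNoetherian _ M⟩
  · have h := satFG_of_finiteType ht0 hA B
    rw [Ideal.map_span, Set.image_singleton]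
    exact ⟨h.flat, fun M _ _ _ => h.ofTensorProduct_bijective M⟩

end Groth.Agent.H24Val
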