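import Groth.Agent.H24Val.TopFinite
import Mathlib.RingTheory.MvPolynomial.Homogeneous
import Mathlib.RingTheory.Jacobson.Ideal

/-!
Saturated submodules over polynomial rings over restricted power series.
-/

universe u v

open MvPolynomial IsLocalRing

set_option linter.style.haveILetI false

namespace Groth.Agent.H24Val

open AdicRing

section Components

variable {A : Type u} [CommRing A] {m s : ℕ}

theorem hc_mul_X (x : MvPolynomial (Fin (m + 1)) A) (j : Fin (m + 1)) (d : ℕ) :
    homogeneousComponent (d + 1) (x * X j) = homogeneousComponent d x * X j := by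
  classical
  conv_lhs => rw [← sum_homogeneousComponent x, Finset.sum_mul, map_sum]
  have key : ∀ i, homogeneousComponent (d + 1) (homogeneousComponent i x * X j) =
      if d + 1 = i + 1 then homogeneousComponent i x * X j else 0 := fun i => by
    rw [homogeneousComponent_of_mem ((homogeneousComponent_isHomogeneous i x).mul (isHomogeneous_X A j))]
  simp only [key, add_left_inj]
  rw [Finset.sum_ite_eq]
  simp only [Finset.mem_range]
  split_ifs with h
  · rfl
  · rw [homogeneousComponent_eq_zero _ _ (by omega), zero_mul]

theorem hc_zero_mul_X (x : MvPolynomial (Fin (m + 1)) A) (j : Fin (m + 1)) :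
    homogeneousComponent 0 (x * X j) = 0 := by
  rw [homogeneousComponent_zero, mul_comm, coeff_X_mul']
  simp

/-- Dehomogenization. -/
noncomputable def dehom : MvPolynomial (Fin (m + 1)) A →ₐ[A] MvPolynomial (Fin m) A :=
  aeval (Fin.cons 1 X)

/-- The elements all of whose homogeneous components dehomogenize into `N`. -/
noncomputable def homSub (N : Submodule (MvPolynomial (Fin m) A) (Fin s → MvPolynomial (Fin m) A)) :
    Submodule (MvPolynomial (Fin (m + 1)) A) (Fin s → MvPolynomial (Fin (m + 1)) A) where
  carrier := {x | ∀ d, (fun j => dehom (homogeneousComponent d (x j))) ∈ N}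
  add_mem' := by
    intro x y hx hy d
    convert add_mem (hx d) (hy d) using 1
    funext j
    simp
  zero_mem' := by
    intro d
    convert zero_mem N using 1
    funext j
    simp
  smul_mem' := by
    intro a
    induction a using MvPolynomial.induction_on with
    | C a =>
      intro x hx d
      convert N.smul_mem (C a) (hx d) using 1
      funext j
      rw [Pi.smul_apply, Pi.smul_apply, smul_eq_mul, smul_eq_mul, ← MvPolynomial.smul_eq_C_mul,
        map_smul, map_smul, MvPolynomial.smul_eq_C_mul]
    | add p q hp hq =>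
      intro x hx d
      convert add_mem (hp hx d) (hq hx d) using 1
      funext j
      simp [add_mul]
    | mul_X p i hp =>
      intro x hx d
      refine (show (X i • (p • x)) = (p * X i) • x by rw [← mul_smul, mul_comm]) ▸ ?_
      rcases d with _ | d
      · convert zero_mem N using 1
        funext j
        rw [Pi.smul_apply, smul_eq_mul, mul_comm, hc_zero_mul_X, map_zero]
        rfl
      · convert N.smul_mem (dehom (X i)) (hp hx d) using 1
        funext j
        rw [Pi.smul_apply, Pi.smul_apply, smul_eq_mul, mul_comm, hc_mul_X, map_mul, smul_eq_mul]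
        exact mul_comm _ _

theorem mem_homSub {N : Submodule (MvPolynomial (Fin m) A) (Fin s → MvPolynomial (Fin m) A)}
    {x : Fin s → MvPolynomial (Fin (m + 1)) A} :
    x ∈ homSub N ↔ ∀ d, (fun j => dehom (homogeneousComponent d (x j))) ∈ N :=
  Iff.rfl

theorem exists_homogenize (f : MvPolynomial (Fin m) A) (d : ℕ) (hf : f.totalDegree ≤ d) :
    ∃ f' : MvPolynomial (Fin (m + 1)) A, f'.IsHomogeneous d ∧ dehom f' = f := by
  refine ⟨∑ i ∈ Finset.range (f.totalDegree + 1), X 0 ^ (d - i) * rename Fin.succ (homogeneousComponent i f),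
    ?_, ?_⟩
  · refine IsHomogeneous.sum _ _ _ fun i hi => ?_
    rw [Finset.mem_range] at hi
    have h := ((isHomogeneous_X A (0 : Fin (m + 1))).pow (d - i)).mul
      ((homogeneousComponent_isHomogeneous i f).rename_isHomogeneous (f := Fin.succ))
    rwa [one_mul, Nat.sub_add_cancel (by omega)] at h
  · rw [map_sum]
    conv_rhs => rw [← sum_homogeneousComponent f]
    refine Finset.sum_congr rfl fun i _ => ?_
    rw [map_mul, map_pow, dehom, aeval_X, Fin.cons_zero, one_pow, one_mul, aeval_rename]
    have h : ((Fin.cons 1 X : Fin (m + 1) → MvPolynomial (Fin m) A) ∘ Fin.succ) = X :=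
      funext fun j => Fin.cons_succ _ _ j
    rw [h, aeval_X_left_apply]

end Components

variable {R : Type u} [CommRing R] [IsDomain R] [PreValuationRing R] [Ring.KrullDimLE 1 R] {t : R}
  [IsAdicComplete (Ideal.span {t}) R] {n m : ℕ}

set_option maxHeartbeats 1000000 in
/-- Saturated submodules of a finite free module over `R⟨ζ⟩[ξ]` are finitely generated. -/
theorem fg_of_saturated_poly_pi (ht0 : t ≠ 0) {s : ℕ}
    (N : Submodule (MvPolynomial (Fin m) (RPow R (Ideal.span {t}) n))
      (Fin s → MvPolynomial (Fin m) (RPow R (Ideal.span {t}) n)))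
    (hN : ∀ x, t • x ∈ N → x ∈ N) : N.FG := by
  classical
  haveI := isLocalRing_of_pre R
  have hbase : IsBase R (Ideal.span {t}) := ⟨‹_›, Or.inr ⟨‹_›, ‹_›, ‹_›, t, ht0, rfl⟩⟩
  have ht := t_mem_maximalIdeal (R := R) (t := t)
  let A := RPow R (Ideal.span {t}) n
  let Q := MvPolynomial (Fin (m + 1)) A
  let e : MvPolynomial (Fin (n + (m + 1))) R →ₐ[R] Q := aeval (Fin.append
    (fun i => C (algebraMap (MvPolynomial (Fin n) R) A (X i))) X)
  letI algQ : Algebra (MvPolynomial (Fin (n + (m + 1))) R) Q := e.toRingHom.toAlgebra
  haveI : IsScalarTower R (MvPolynomial (Fin (n + (m + 1))) R) Q :=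
    IsScalarTower.of_algebraMap_eq fun r => (e.commutes r).symm
  let k := ResidueField R
  let redQ : Q →+* MvPolynomial (Fin (n + (m + 1))) k :=
    eval₂Hom ((rename (Fin.castAdd (m + 1))).toRingHom.comp (red ht)) (fun j => X (Fin.natAdd n j))
  have hpoly : ∀ p : MvPolynomial (Fin n) R, algebraMap (MvPolynomial (Fin (n + (m + 1))) R) Q
      (rename (Fin.castAdd (m + 1)) p) = C (algebraMap (MvPolynomial (Fin n) R) A p) := by
    intro p
    change e (rename (Fin.castAdd (m + 1)) p) = _
    rw [show e (rename (Fin.castAdd (m + 1)) p) =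
      ((IsScalarTower.toAlgHom R A Q).comp (IsScalarTower.toAlgHom R (MvPolynomial (Fin n) R) A)) p from ?_]
    · rfl
    · rw [aeval_rename]
      congr 1
      refine algHom_ext fun i => ?_
      rw [aeval_X, Function.comp_apply, Fin.append_left]
      rfl
  have hredQ : ∀ p : MvPolynomial (Fin (n + (m + 1))) R,
      redQ (algebraMap _ Q p) = MvPolynomial.map (residue R) p := by
    intro p
    refine RingHom.congr_fun (f := redQ.comp (algebraMap (MvPolynomial (Fin (n + (m + 1))) R) Q))
      (g := MvPolynomial.map (residue R)) (ringHom_ext (fun r => ?_) (fun i => ?_)) p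
    · rw [RingHom.comp_apply, map_C, show (C r : MvPolynomial (Fin (n + (m + 1))) R) =
        rename (Fin.castAdd (m + 1)) (C r) from (rename_C _ _).symm, hpoly]
      refine (eval₂Hom_C _ _ _).trans ((congrArg (rename (Fin.castAdd (m + 1))) (red_poly ht _)).trans ?_)
      rw [map_C, rename_C]
    · rw [RingHom.comp_apply, map_X]
      change redQ (e (X i)) = X i
      rw [aeval_X]
      induction i using Fin.addCases with
      | left i =>
        rw [Fin.append_left]
        refine (eval₂Hom_C _ _ _).trans ((congrArg (rename (Fin.castAdd (m + 1))) (red_poly ht _)).trans ?_)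
        rw [map_X, rename_X]
      | right j => rw [Fin.append_right]; exact eval₂Hom_X' _ _ j
  have happrox : ∀ (x : Q) (M : ℕ), ∃ (p : MvPolynomial (Fin (n + (m + 1))) R) (y : Q),
      x - algebraMap _ Q p = t ^ M • y := by
    intro x M
    induction x using MvPolynomial.induction_on with
    | C a =>
      obtain ⟨p, y, hp⟩ := exists_poly_approx a M
      refine ⟨rename (Fin.castAdd (m + 1)) p, C y, ?_⟩
      rw [hpoly, ← map_sub, hp, Algebra.smul_def, Algebra.smul_def, map_mul]
      rfl
    | add a b ha hb =>
      obtain ⟨p, y, hp⟩ := ha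
      obtain ⟨q, z, hq⟩ := hb
      exact ⟨p + q, y + z, by rw [map_add, smul_add, ← hp, ← hq]; abel⟩
    | mul_X a j ha =>
      obtain ⟨p, y, hp⟩ := ha
      refine ⟨p * X (Fin.natAdd n j), y * X j, ?_⟩
      rw [map_mul, show algebraMap (MvPolynomial (Fin (n + (m + 1))) R) Q (X (Fin.natAdd n j)) = X j from
        (aeval_X _ _).trans (Fin.append_right _ _ _), ← sub_mul, hp, smul_mul_assoc]
  have hN' : ∀ x, t • x ∈ homSub N → x ∈ homSub N := by
    intro x hx d
    refine hN _ ?_
    convert hx d using 1
    funext j
    rw [Pi.smul_apply, Pi.smul_apply, ← algebraMap_smul A t (x j), map_smul, map_smul, algebraMap_smul]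
  obtain ⟨l, g, c, hcm, hgN, hstep⟩ := exists_step (Q := Q) ht ht0 redQ hredQ happrox (homSub N) hN'
  let E := Finset.univ.sup fun i : Fin l => Finset.univ.sup fun j : Fin s => (g i j).totalDegree
  let T : Submodule (MvPolynomial (Fin m) A) (Fin s → MvPolynomial (Fin m) A) :=
    Submodule.span _ (Set.range fun p : Fin l × Fin (E + 1) =>
      fun j => dehom (homogeneousComponent (p.2 : ℕ) (g p.1 j)))
  have hgT : ∀ i, g i ∈ homSub T := by
    intro i d
    by_cases hd : d < E + 1
    · exact Submodule.subset_span ⟨(i, ⟨d, hd⟩), rfl⟩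
    · convert zero_mem T using 1
      funext j
      have h2 : (g i j).totalDegree ≤ E :=
        (Finset.le_sup (f := fun j => (g i j).totalDegree) (Finset.mem_univ j)).trans
          (Finset.le_sup (f := fun i => Finset.univ.sup fun j => (g i j).totalDegree) (Finset.mem_univ i))
      rw [homogeneousComponent_eq_zero _ _ (by omega), map_zero]
      rfl
  have hTN : T ≤ N := Submodule.span_le.mpr (by rintro _ ⟨p, rfl⟩; exact hgN p.1 _)
  suffices N ≤ T by
    rw [le_antisymm this hTN]
    exact Submodule.fg_span (Set.finite_range _)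
  intro f hf
  let d := Finset.univ.sup fun j => (f j).totalDegree
  choose f' hf'h hf' using fun j => exists_homogenize (f j) d
    (Finset.le_sup (f := fun j => (f j).totalDegree) (Finset.mem_univ j))
  let H : Submodule A (MvPolynomial (Fin (m + 1)) A) := homogeneousSubmodule (Fin (m + 1)) A d
  haveI : Module.Finite A H := by
    refine Module.Finite.of_surjective (((homogeneousComponent d).comp
      (restrictTotalDegree (Fin (m + 1)) A d).subtype).codRestrict H
        fun p => homogeneousComponent_mem d _) fun x => ?_
    refine ⟨⟨x.1, (mem_restrictTotalDegree _ _ _).mpr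
      ((mem_homogeneousSubmodule _ _).mp x.2).totalDegree_le⟩, Subtype.ext ?_⟩
    exact (homogeneousComponent_of_mem x.2).trans (if_pos rfl)
  let L : (Fin s → H) →ₗ[A] (Fin s → MvPolynomial (Fin m) A) :=
    LinearMap.pi fun j => (dehom.toLinearMap.comp H.subtype).comp (LinearMap.proj j)
  let Nd : Submodule A (Fin s → H) := (N.restrictScalars A).comap L
  let W : Submodule A (Fin s → H) := (T.restrictScalars A).comap L
  have hhc : ∀ (x : Fin s → H) (j : Fin s), homogeneousComponent d (x j : MvPolynomial (Fin (m + 1)) A) = x j :=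
    fun x j => (homogeneousComponent_of_mem (x j).2).trans (if_pos rfl)
  have hmem : ∀ x ∈ Nd, (fun j => ((x j : H) : Q)) ∈ homSub N := by
    intro x hx d'
    by_cases hd : d' = d
    · subst hd
      convert (show L x ∈ N from hx) using 1
      funext j
      rw [hhc]
      rfl
    · convert zero_mem N using 1
      funext j
      rw [homogeneousComponent_of_mem (x j).2, if_neg hd, map_zero]
      rfl
  have hNd : Nd.FG := fg_of_saturated hbase Nd fun x k hx => by
    have h1 : t ^ k • L x ∈ N := by
      rw [← LinearMap.map_smul_of_tower]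
      exact hx _ (by rw [Ideal.span_singleton_pow]; exact Ideal.mem_span_singleton_self _)
    clear hx
    induction k with
    | zero => rw [pow_zero, one_smul] at h1; exact h1
    | succ k ih => exact ih (hN _ (by rwa [← mul_smul, ← pow_succ']))
  haveI := isAdicComplete_rPow (n := n) hbase
  haveI : IsAdicComplete ((Ideal.span {t}).map (algebraMap R A)) A :=
    (IsAdicComplete.map_algebraMap_iff _ _).2 inferInstance
  have hle : Nd ≤ W := by
    refine Submodule.le_of_le_smul_of_le_jacobson_bot (I := Ideal.span {algebraMap R A c}) hNd ?_ ?_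
    · rw [Ideal.span_singleton_le_iff_mem]
      obtain ⟨M, b, hb⟩ := exists_pow_dvd ht0 hcm
      refine (show ((Ideal.span {t}).map (algebraMap R A)).radical ≤ Ideal.jacobson ⊥ from ?_) ⟨M, ?_⟩
      · exact Ideal.radical_le_jacobson.trans
          ((Ideal.jacobson_mono (IsAdicComplete.le_jacobson_bot _)).trans Ideal.jacobson_idem.le)
      · rw [← map_pow, hb, map_mul]
        exact Ideal.mul_mem_right _ _ (Ideal.mem_map_of_mem _ (Ideal.mem_span_singleton_self t))
    intro x hx
    obtain ⟨γ, hγ, z, hz, hxz⟩ := hstep _ (hmem x hx)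
    have hγT : γ ∈ homSub T := (Submodule.span_le.mpr (by rintro _ ⟨i, rfl⟩; exact hgT i)) hγ
    let xγ : Fin s → H := fun j => ⟨homogeneousComponent d (γ j), homogeneousComponent_mem d _⟩
    let xz : Fin s → H := fun j => ⟨homogeneousComponent d (z j), homogeneousComponent_mem d _⟩
    have hx' : x = xγ + algebraMap R A c • xz := by
      funext j
      refine Subtype.ext ?_
      have h2 := congrArg (homogeneousComponent d) (congrFun hxz j)
      rw [hhc, Pi.add_apply, map_add, Pi.smul_apply, ← algebraMap_smul A c (z j), map_smul] at h2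
      exact h2
    rw [hx']
    exact Submodule.add_mem_sup (show xγ ∈ W from hγT d)
      (Submodule.smul_mem_smul (Ideal.mem_span_singleton_self _) (show xz ∈ Nd from hz d))
  let x₀ : Fin s → H := fun j => ⟨f' j, (mem_homogeneousSubmodule _ _).mpr (hf'h j)⟩
  have h3 : L x₀ = f := funext fun j => hf' j
  have h4 : x₀ ∈ W := hle (show L x₀ ∈ N from h3.symm ▸ hf)
  exact h3 ▸ h4

end Groth.Agent.H24Val
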