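import Groth.Prelude.Def_W4bk4boschfrg79
import Groth.Agent.H24Val.Degree
import Mathlib.Algebra.MvPolynomial.NoZeroDivisors
import Mathlib.LinearAlgebra.Dimension.Free
import Mathlib.RingTheory.MvPolynomial.Basic
import Mathlib.RingTheory.Nakayama
import Mathlib.RingTheory.LocalRing.ResidueField.Basic
import Groth.Agent.H24Adic.CompletionMap
import Groth.Agent.H24Adic.Basic
import Mathlib.RingTheory.AdicCompletion.LocalRing
import Mathlib.RingTheory.Valuation.ValuationRing

/-!
Saturated submodules of free modules over restricted power series rings over a height one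
valuation ring are finitely generated.
-/

universe u

open MvPolynomial IsLocalRing

namespace Groth.Agent.H24Val

section Content

variable {R : Type u} [CommRing R] [PreValuationRing R]

theorem exists_dvd_all (s : Finset R) (hs : s.Nonempty) : ∃ e ∈ s, ∀ a ∈ s, e ∣ a := by
  classical
  induction hs using Finset.Nonempty.cons_induction with
  | singleton a => exact ⟨a, by simp, fun b hb => by rw [Finset.mem_singleton.mp hb]⟩
  | cons a s ha hs ih =>
    obtain ⟨e, he, hall⟩ := ih
    rcases PreValuationRing.cond a e with ⟨c, hc | hc⟩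
    · refine ⟨a, by simp, fun b hb => ?_⟩
      rcases Finset.mem_cons.mp hb with rfl | hb
      · rfl
      · exact (Dvd.intro c hc).trans (hall b hb)
    · refine ⟨e, by simp [he], fun b hb => ?_⟩
      rcases Finset.mem_cons.mp hb with rfl | hb
      · exact Dvd.intro c hc
      · exact hall b hb

theorem exists_pow_dvd [IsDomain R] [IsLocalRing R] [Ring.KrullDimLE 1 R] {x : R} (hx : x ≠ 0)
    {c : R} (hc : c ∈ maximalIdeal R) : ∃ N : ℕ, x ∣ c ^ N := by
  have h : c ∈ (Ideal.span {x}).radical := by
    rw [Ideal.radical_eq_sInf, Submodule.mem_sInf]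
    rintro P ⟨hle, hP⟩
    rw [IsLocalRing.eq_maximalIdeal ((Ring.krullDimLE_one_iff_of_noZeroDivisors.mp
      (inferInstance : Ring.KrullDimLE 1 R)) P (fun hP0 => hx (by
        have := hle (Ideal.mem_span_singleton_self x)
        rwa [hP0, Ideal.mem_bot] at this)) hP)]
    exact hc
  obtain ⟨N, hN⟩ := h
  exact ⟨N, Ideal.mem_span_singleton.mp hN⟩

end Content

theorem isLocalRing_of_pre (R : Type u) [CommRing R] [IsDomain R] [PreValuationRing R] :
    IsLocalRing R :=
  haveI : ValuationRing R := { }
  inferInstance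

variable {R : Type u} [CommRing R] {t : R} {n : ℕ}

theorem t_mem_maximalIdeal [IsLocalRing R] [IsAdicComplete (Ideal.span {t}) R] :
    t ∈ maximalIdeal R :=
  (IsLocalRing.jacobson_eq_maximalIdeal (R := R) ⊥ bot_ne_top).le
    (IsAdicComplete.le_jacobson_bot (Ideal.span {t}) (Ideal.mem_span_singleton_self t))

theorem fg_J : ((Ideal.span {t}).map (MvPolynomial.C : R →+* MvPolynomial (Fin n) R)).FG :=
  Ideal.FG.map (show (Ideal.span {t}).FG from Submodule.fg_span_singleton t) _

theorem map_J_pow (M : ℕ) :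
    ((((Ideal.span {t}).map (MvPolynomial.C : R →+* MvPolynomial (Fin n) R)) ^ M).map
      (algebraMap (MvPolynomial (Fin n) R) (AdicRing.RPow R (Ideal.span {t}) n))) =
      Ideal.span {algebraMap R (AdicRing.RPow R (Ideal.span {t}) n) t ^ M} := by
  rw [Ideal.map_pow]
  refine (congrArg (· ^ M) (Ideal.map_map _ _)).trans ?_
  refine (congrArg (· ^ M) ((Ideal.map_span _ _).trans
    (congrArg Ideal.span Set.image_singleton))).trans ?_
  exact Ideal.span_singleton_pow _ _

theorem exists_poly_approx (x : AdicRing.RPow R (Ideal.span {t}) n) (M : ℕ) :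
    ∃ (p : MvPolynomial (Fin n) R) (y : AdicRing.RPow R (Ideal.span {t}) n),
      x - algebraMap _ _ p = t ^ M • y := by
  obtain ⟨p, hp⟩ := H24Adic.exists_sub_of_mem (fg_J (t := t) (n := n)) M x
  rw [map_J_pow, Ideal.mem_span_singleton'] at hp
  obtain ⟨y, hy⟩ := hp
  exact ⟨p, y, by rw [← hy, Algebra.smul_def, map_pow, mul_comm]⟩

variable [IsLocalRing R]

theorem map_le_ker_residue (ht : t ∈ maximalIdeal R) :
    (Ideal.span {t}).map (MvPolynomial.C : R →+* MvPolynomial (Fin n) R) ≤
      RingHom.ker (MvPolynomial.map (σ := Fin n) (residue R)) := by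
  rw [Ideal.map_le_iff_le_comap, Ideal.span_singleton_le_iff_mem, Ideal.mem_comap, RingHom.mem_ker,
    MvPolynomial.map_C, (IsLocalRing.residue_eq_zero_iff t).mpr ht, map_zero]

/-- Reduction of restricted power series to polynomials over the residue field. -/
noncomputable def red (ht : t ∈ maximalIdeal R) :
    AdicRing.RPow R (Ideal.span {t}) n →+* MvPolynomial (Fin n) (ResidueField R) :=
  (Ideal.Quotient.lift _ (MvPolynomial.map (σ := Fin n) (residue R))
    (fun _ ha => map_le_ker_residue ht ha)).comp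
    (AdicCompletion.evalOneₐ ((Ideal.span {t}).map (MvPolynomial.C : R →+* MvPolynomial (Fin n) R))).toRingHom

theorem red_poly (ht : t ∈ maximalIdeal R) (p : MvPolynomial (Fin n) R) :
    red ht (algebraMap (MvPolynomial (Fin n) R) (AdicRing.RPow R (Ideal.span {t}) n) p) =
      MvPolynomial.map (residue R) p :=
  rfl

set_option maxHeartbeats 1000000 in
/-- One approximation step, for an abstract ring of restricted power series. -/
theorem exists_step [IsDomain R] [PreValuationRing R] [Ring.KrullDimLE 1 R] (ht : t ∈ maximalIdeal R)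
    (ht0 : t ≠ 0) {Q : Type u} [CommRing Q] [Algebra R Q] [Algebra (MvPolynomial (Fin n) R) Q]
    [IsScalarTower R (MvPolynomial (Fin n) R) Q]
    (red : Q →+* MvPolynomial (Fin n) (ResidueField R))
    (red_poly : ∀ p : MvPolynomial (Fin n) R,
      red (algebraMap _ Q p) = MvPolynomial.map (residue R) p)
    (exists_poly_approx : ∀ (x : Q) (M : ℕ), ∃ (p : MvPolynomial (Fin n) R) (y : Q),
      x - algebraMap _ _ p = t ^ M • y)
    {s : ℕ} (N : Submodule Q (Fin s → Q)) (hN : ∀ x, t • x ∈ N → x ∈ N) :
    ∃ (m : ℕ) (g : Fin m → Fin s → Q) (c : R), c ∈ maximalIdeal R ∧ (∀ i, g i ∈ N) ∧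
      ∀ x ∈ N, ∃ γ ∈ Submodule.span Q (Set.range g), ∃ z ∈ N, x = γ + c • z := by
  classical
  let k := ResidueField R
  have red_smul : ∀ (c : R) (y : Q), red (c • y) = MvPolynomial.C (residue R c) * red y := by
    intro c y
    rw [Algebra.smul_def, map_mul, IsScalarTower.algebraMap_apply R (MvPolynomial (Fin n) R) Q,
      red_poly, MvPolynomial.algebraMap_eq, MvPolynomial.map_C]
  have hsat : ∀ e : R, e ≠ 0 → ∀ x, e • x ∈ N → x ∈ N := by
    intro e he x hx
    obtain ⟨M, f, hf⟩ := exists_pow_dvd he ht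
    have h1 : t ^ M • x ∈ N := by
      rw [hf, mul_comm, mul_smul]
      exact N.smul_of_tower_mem f hx
    clear hf
    induction M with
    | zero => simpa using h1
    | succ M ih => exact ih (hN _ (by rwa [← mul_smul, ← pow_succ']))
  let ρ : (Fin s → Q) → (Fin s → MvPolynomial (Fin n) k) := fun x j => red (x j)
  let Nb : Submodule (MvPolynomial (Fin n) k) (Fin s → MvPolynomial (Fin n) k) :=
    { carrier := ρ '' N
      add_mem' := by
        rintro _ _ ⟨x, hx, rfl⟩ ⟨y, hy, rfl⟩
        exact ⟨x + y, add_mem hx hy, funext fun j => map_add _ _ _⟩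
      zero_mem' := ⟨0, zero_mem _, funext fun j => map_zero _⟩
      smul_mem' := by
        rintro a _ ⟨x, hx, rfl⟩
        obtain ⟨b, rfl⟩ := MvPolynomial.map_surjective (residue R) IsLocalRing.residue_surjective a
        exact ⟨algebraMap _ Q b • x, N.smul_mem _ hx, funext fun j => by
          simp only [ρ, Pi.smul_apply, smul_eq_mul, map_mul, red_poly]⟩ }
  obtain ⟨m, v, e, hvN, hve, hrep⟩ := exists_degree_basis Nb
  choose g hgN hgv using hvN
  have hlift : ∀ a : MvPolynomial (Fin n) k, ∃ b : MvPolynomial (Fin n) R,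
      MvPolynomial.map (residue R) b = a ∧ b.totalDegree ≤ a.totalDegree ∧ (a = 0 → b = 0) := by
    intro a
    refine ⟨∑ d ∈ a.support, monomial d (Function.surjInv IsLocalRing.residue_surjective (coeff d a)), ?_, ?_, ?_⟩
    · rw [map_sum]
      conv_rhs => rw [a.as_sum]
      refine Finset.sum_congr rfl fun d _ => ?_
      rw [MvPolynomial.map_monomial, Function.surjInv_eq IsLocalRing.residue_surjective]
    · refine (totalDegree_finset_sum _ _).trans (Finset.sup_le fun d hd => ?_)
      exact (totalDegree_monomial_le _ _).trans (le_totalDegree hd)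
    · rintro rfl
      simp
  choose lift hlift₁ hlift₂ hlift₀' using hlift
  have hlift₀ : lift 0 = 0 := hlift₀' 0 rfl
  choose q w hqw using fun (i : Fin m) (j : Fin s) => exists_poly_approx (g i j) 1
  let S : Finset R := insert t (Finset.univ.biUnion fun i : Fin m => Finset.univ.biUnion fun j : Fin s =>
    (q i j - lift (v i j)).support.image fun d => coeff d (q i j - lift (v i j)))
  obtain ⟨c, hcS, hcdvd⟩ := exists_dvd_all S (Finset.insert_nonempty _ _)
  have hSm : ∀ a ∈ S, a ∈ maximalIdeal R := by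
    intro a ha
    simp only [S, Finset.mem_insert, Finset.mem_biUnion, Finset.mem_image, Finset.mem_univ, true_and] at ha
    rcases ha with rfl | ⟨i, j, d, -, rfl⟩
    · exact ht
    · rw [← IsLocalRing.residue_eq_zero_iff, ← MvPolynomial.coeff_map, map_sub]
      have h1 : MvPolynomial.map (residue R) (q i j) = v i j := by
        have h := congrArg red (hqw i j)
        rw [map_sub, red_smul, red_poly, pow_one, (IsLocalRing.residue_eq_zero_iff t).mpr ht, map_zero,
          zero_mul, sub_eq_zero] at h
        exact h.symm.trans (congrFun (hgv i) j)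
      rw [h1, hlift₁, sub_self, coeff_zero]
  have hcm := hSm c hcS
  have hc0 : c ≠ 0 := fun h => ht0 (zero_dvd_iff.mp (h ▸ hcdvd t (Finset.mem_insert_self _ _)))
  have hgp : ∀ i j, ∃ y : Q, g i j = algebraMap _ Q (lift (v i j)) + c • y := by
    intro i j
    obtain ⟨f, hf⟩ := hcdvd t (Finset.mem_insert_self _ _)
    have hd : MvPolynomial.C c ∣ q i j - lift (v i j) := by
      rw [MvPolynomial.C_dvd_iff_dvd_coeff]
      intro d
      by_cases hd : d ∈ (q i j - lift (v i j)).support
      · refine hcdvd _ (Finset.mem_insert_of_mem ?_)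
        simp only [Finset.mem_biUnion, Finset.mem_image, Finset.mem_univ, true_and]
        exact ⟨i, j, d, hd, rfl⟩
      · rw [MvPolynomial.notMem_support_iff.mp hd]; exact dvd_zero c
    obtain ⟨r, hr⟩ := hd
    refine ⟨algebraMap _ Q r + f • w i j, ?_⟩
    have h1 := hqw i j
    have h2 : algebraMap _ Q (q i j) = algebraMap _ Q (lift (v i j)) + c • algebraMap _ Q r := by
      rw [Algebra.smul_def, IsScalarTower.algebraMap_apply R (MvPolynomial (Fin n) R) Q,
        ← map_mul, ← map_add, MvPolynomial.algebraMap_eq, ← hr]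
      congr 1
      ring
    rw [sub_eq_iff_eq_add, pow_one, hf, mul_smul, h2] at h1
    rw [h1, smul_add]
    abel
  choose gy hgy using hgp
  let G : Submodule Q (Fin s → Q) := Submodule.span Q (Set.range g)
  refine ⟨m, g, c, hcm, hgN, ?_⟩
  intro x hx
  obtain ⟨M, f, hf⟩ := exists_pow_dvd hc0 ht
  choose p py hp using fun j => exists_poly_approx (x j) M
  set D := Finset.univ.sup fun j => (p j).totalDegree with hD
  have hpD : ∀ j, (p j).totalDegree ≤ D := fun j =>
    Finset.le_sup (f := fun j => (p j).totalDegree) (Finset.mem_univ j)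
  let V : Submodule k (Fin s → MvPolynomial (Fin n) k) :=
    Submodule.pi Set.univ fun _ => restrictTotalDegree (Fin n) k D
  have hVmem : ∀ z, z ∈ V ↔ ∀ j, (z j).totalDegree ≤ D := fun z => by
    simp [V, Submodule.mem_pi, mem_restrictTotalDegree]
  haveI : FiniteDimensional k V := by
    haveI : Module.Finite k (restrictTotalDegree (Fin n) k D) := inferInstance
    exact Module.Finite.of_injective
      (LinearMap.pi fun j => (LinearMap.codRestrict (restrictTotalDegree (Fin n) k D)
        ((LinearMap.proj j).comp V.subtype) fun z => (mem_restrictTotalDegree _ _ _).mpr ((hVmem z).mp z.2 j)) :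
        V →ₗ[k] Fin s → restrictTotalDegree (Fin n) k D)
      (fun a b h => Subtype.ext (funext fun j => congrArg Subtype.val (congrFun h j)))
  let W : Submodule k V := (Nb.restrictScalars k).comap V.subtype
  obtain ⟨U, hU⟩ := Submodule.exists_isCompl W
  haveI : Module.Free k U := Module.Free.of_divisionRing k U
  obtain ⟨nU, ⟨b⟩⟩ : ∃ nU : ℕ, Nonempty (Module.Basis (Fin nU) k U) := ⟨_, ⟨Module.finBasis k U⟩⟩
  let ut : Fin nU → Fin s → MvPolynomial (Fin n) R :=
    fun l j => lift ((b l).1.1 j)
  let MD : Submodule R (Fin s → MvPolynomial (Fin n) R) :=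
    Submodule.pi Set.univ fun _ => restrictTotalDegree (Fin n) R D
  have hMD : ∀ z, z ∈ MD ↔ ∀ j, (z j).totalDegree ≤ D := fun z => by
    simp [MD, Submodule.mem_pi, mem_restrictTotalDegree]
  let P : Submodule R (Fin s → MvPolynomial (Fin n) R) :=
    (Submodule.span (MvPolynomial (Fin n) R) (Set.range fun i j => lift (v i j))).restrictScalars R ⊔
      Submodule.span R (Set.range ut)
  have hMDfg : MD.FG := by
    haveI : Module.Finite R (restrictTotalDegree (Fin n) R D) := inferInstance
    have : MD = LinearMap.range ((LinearMap.pi fun j =>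
        (restrictTotalDegree (Fin n) R D).subtype.comp (LinearMap.proj j)) :
          (Fin s → restrictTotalDegree (Fin n) R D) →ₗ[R] _) := by
      ext z
      rw [LinearMap.mem_range, hMD]
      refine ⟨fun h => ⟨fun j => ⟨z j, (mem_restrictTotalDegree _ _ _).mpr (h j)⟩, rfl⟩, ?_⟩
      rintro ⟨y, rfl⟩ j
      exact (mem_restrictTotalDegree _ _ _).mp (y j).2
    rw [this]
    exact Module.Finite.iff_fg.mp inferInstance
  have hmem_smul : ∀ z ∈ MD, (∀ j, MvPolynomial.map (residue R) (z j) = 0) →
      z ∈ maximalIdeal R • MD := by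
    intro z hz h0
    rw [show z = ∑ j, ∑ d ∈ (z j).support, coeff d (z j) • (Pi.single j (monomial d (1 : R)) :
        Fin s → MvPolynomial (Fin n) R) from funext fun j₀ => by
      rw [Finset.sum_apply, Finset.sum_eq_single j₀]
      · simp only [Finset.sum_apply, Pi.smul_apply, Pi.single_eq_same, smul_monomial, smul_eq_mul, mul_one]
        exact (z j₀).as_sum
      · intro j _ hj
        simp only [Finset.sum_apply, Pi.smul_apply, Pi.single_eq_of_ne hj.symm, smul_zero,
          Finset.sum_const_zero]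
      · intro h; exact absurd (Finset.mem_univ j₀) h]
    refine Submodule.sum_mem _ fun j _ => Submodule.sum_mem _ fun d hd => Submodule.smul_mem_smul ?_ ?_
    · rw [← IsLocalRing.residue_eq_zero_iff, ← coeff_map, h0 j, coeff_zero]
    · rw [hMD]
      intro j₁
      by_cases h : j₁ = j
      · subst h
        rw [Pi.single_eq_same]
        exact (totalDegree_monomial_le _ _).trans ((le_totalDegree hd).trans ((hMD z).mp hz j₁))
      · rw [Pi.single_eq_of_ne h, totalDegree_zero]
        exact Nat.zero_le D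
  have hMDP : MD ≤ P := by
    refine Submodule.le_of_le_smul_of_le_jacobson_bot (I := maximalIdeal R) hMDfg
      (IsLocalRing.maximalIdeal_le_jacobson _) fun z hz => ?_
    have hzV : (fun j => MvPolynomial.map (residue R) (z j)) ∈ V :=
      (hVmem _).mpr fun j => le_trans (Finset.sup_mono (support_map_subset _ _)) ((hMD z).mp hz j)
    obtain ⟨w₀, hw₀, u₀, hu₀, hwu⟩ := Submodule.mem_sup.mp
      (hU.codisjoint.eq_top.ge (Submodule.mem_top : (⟨_, hzV⟩ : V) ∈ ⊤))
    obtain ⟨h, hhd, hsum⟩ := hrep D w₀.1 hw₀ ((hVmem _).mp w₀.2)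
    let a₀ := fun l => Function.surjInv IsLocalRing.residue_surjective (b.repr ⟨u₀, hu₀⟩ l)
    let z₁ : Fin s → MvPolynomial (Fin n) R :=
      (∑ i, lift (h i) • fun j => lift (v i j)) + ∑ l, a₀ l • ut l
    have hz₁P : z₁ ∈ P := Submodule.add_mem_sup
      (show (∑ i, lift (h i) • fun j => lift (v i j)) ∈ (Submodule.span (MvPolynomial (Fin n) R)
          (Set.range fun i j => lift (v i j))).restrictScalars R from
        (Submodule.restrictScalars_mem R _ _).mpr (Submodule.sum_mem _ fun i _ =>
          Submodule.smul_mem _ _ (Submodule.subset_span ⟨i, rfl⟩)))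
      (Submodule.sum_mem _ fun l _ => Submodule.smul_mem _ _ (Submodule.subset_span ⟨l, rfl⟩))
    have hz₁MD : z₁ ∈ MD := by
      rw [hMD]
      intro j
      simp only [z₁, Pi.add_apply, Finset.sum_apply, Pi.smul_apply, smul_eq_mul]
      refine (totalDegree_add _ _).trans (max_le ?_ ?_)
      · refine (totalDegree_finset_sum _ _).trans (Finset.sup_le fun i _ => ?_)
        by_cases h1 : v i j = 0
        · rw [h1, hlift₀, mul_zero, totalDegree_zero]; exact Nat.zero_le D
        by_cases h3 : h i = 0
        · rw [h3, hlift₀, zero_mul, totalDegree_zero]; exact Nat.zero_le D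
        refine (totalDegree_mul _ _).trans ((add_le_add (hlift₂ _) (hlift₂ _)).trans ?_)
        rw [← totalDegree_mul_of_isDomain h3 h1]
        exact hhd i j
      · refine (totalDegree_finset_sum _ _).trans (Finset.sup_le fun l _ => ?_)
        refine (totalDegree_smul_le _ _).trans ((hlift₂ _).trans ((hVmem _).mp (b l).1.2 j))
    have hres : ∀ j, MvPolynomial.map (residue R) ((z - z₁) j) = 0 := by
      intro j
      rw [Pi.sub_apply, map_sub, sub_eq_zero]
      have h1 : (w₀ + u₀).1 j = MvPolynomial.map (residue R) (z j) := congrFun (congrArg Subtype.val hwu) j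
      have h2 := congrFun (congrArg (fun u : U => u.1.1) (b.sum_repr ⟨u₀, hu₀⟩)) j
      simp only [z₁, Pi.add_apply, Finset.sum_apply, Pi.smul_apply, smul_eq_mul, map_add, map_sum,
        map_mul, hlift₁, ut, MvPolynomial.smul_eq_C_mul, MvPolynomial.map_C, a₀,
        Function.surjInv_eq IsLocalRing.residue_surjective]
      rw [← h1]
      simp only [Submodule.coe_add, Pi.add_apply, hsum, Finset.sum_apply, Pi.smul_apply, smul_eq_mul]
      rw [← h2]
      simp only [Submodule.coe_sum, Submodule.coe_smul, Finset.sum_apply, Pi.smul_apply,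
        MvPolynomial.smul_eq_C_mul]
    have hfinal := Submodule.add_mem_sup hz₁P (hmem_smul (z - z₁) (sub_mem hz hz₁MD) hres)
    rwa [add_sub_cancel] at hfinal
  obtain ⟨g₀, hg₀, u₀, hu₀, hgu⟩ := Submodule.mem_sup.mp (hMDP ((hMD p).mpr hpD))
  rw [Submodule.restrictScalars_mem] at hg₀
  obtain ⟨hh, rfl⟩ := (Submodule.mem_span_range_iff_exists_fun _).mp hg₀
  obtain ⟨a, rfl⟩ := (Submodule.mem_span_range_iff_exists_fun _).mp hu₀
  let γ : Fin s → Q := ∑ i, algebraMap _ Q (hh i) • g i
  have hγ : γ ∈ G := Submodule.sum_mem _ fun i _ => Submodule.smul_mem _ _ (Submodule.subset_span ⟨i, rfl⟩)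
  have hγN : γ ∈ N := Submodule.sum_mem _ fun i _ => N.smul_mem _ (hgN i)
  let ι : (Fin s → MvPolynomial (Fin n) R) → (Fin s → Q) := fun z j => algebraMap _ Q (z j)
  obtain ⟨w', hw'⟩ : ∃ w', x - γ = ∑ l, a l • ι (ut l) + c • w' := by
    refine ⟨fun j => f • py j - ∑ i, algebraMap _ Q (hh i) * gy i j, funext fun j => ?_⟩
    have h1 := hp j
    rw [sub_eq_iff_eq_add] at h1
    have h2 : algebraMap _ Q (p j) = ∑ i, algebraMap _ Q (hh i) * algebraMap _ Q (lift (v i j)) +
        ∑ l, a l • algebraMap _ Q (ut l j) := by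
      rw [← congrFun hgu j]
      simp only [Pi.add_apply, Finset.sum_apply, Pi.smul_apply, smul_eq_mul, map_add, map_sum, map_mul]
      congr 1
      refine Finset.sum_congr rfl fun l _ => ?_
      rw [MvPolynomial.smul_eq_C_mul, map_mul, Algebra.smul_def,
        IsScalarTower.algebraMap_apply R (MvPolynomial (Fin n) R) Q, MvPolynomial.algebraMap_eq]
    simp only [γ, ι, Pi.sub_apply, Pi.add_apply, Finset.sum_apply, Pi.smul_apply, smul_eq_mul, hgy,
      mul_add, Finset.sum_add_distrib, mul_smul_comm, ← Finset.smul_sum, smul_sub]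
    rw [h1, h2, hf, mul_smul]
    abel
  by_cases hall : ∀ l, c ∣ a l
  · choose a' ha' using hall
    refine ⟨γ, hγ, ∑ l, a' l • ι (ut l) + w', hsat c hc0 _ ?_, ?_⟩
    · rw [smul_add, Finset.smul_sum]
      simp only [← mul_smul, ← ha']
      rw [← hw']
      exact sub_mem hx hγN
    · rw [smul_add, Finset.smul_sum]
      simp only [← mul_smul, ← ha']
      rw [← hw', add_sub_cancel]
  · exfalso
    obtain ⟨l₀, hl₀⟩ := not_forall.mp hall
    obtain ⟨e₀, he₀, he₀d⟩ := exists_dvd_all (Finset.univ.image a)
      ⟨a l₀, Finset.mem_image_of_mem a (Finset.mem_univ l₀)⟩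
    obtain ⟨l₁, -, rfl⟩ := Finset.mem_image.mp he₀
    have hce : ¬ c ∣ a l₁ := fun h => hl₀ (h.trans (he₀d _ (Finset.mem_image_of_mem a (Finset.mem_univ _))))
    obtain ⟨f', hf'⟩ : a l₁ ∣ c := by
      rcases PreValuationRing.cond c (a l₁) with ⟨r, hr | hr⟩
      · exact absurd (Dvd.intro r hr) hce
      · exact Dvd.intro r hr
    have hf'm : f' ∈ maximalIdeal R := by
      rw [IsLocalRing.mem_maximalIdeal, mem_nonunits_iff]
      intro hu
      obtain ⟨u', rfl⟩ := hu
      exact hce ⟨(u'⁻¹ : Rˣ), by rw [hf']; simp [mul_assoc]⟩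
    choose a' ha' using fun l => he₀d _ (Finset.mem_image_of_mem a (Finset.mem_univ l))
    have he0 : a l₁ ≠ 0 := fun h => hce (h ▸ dvd_zero c)
    have hzN : ∑ l, a' l • ι (ut l) + f' • w' ∈ N := by
      refine hsat (a l₁) he0 _ ?_
      rw [smul_add, Finset.smul_sum]
      simp only [← mul_smul, ← ha', ← hf']
      rw [← hw']
      exact sub_mem hx hγN
    let uu : U := ∑ l, residue R (a' l) • b l
    have huu : uu.1.1 = ρ (∑ l, a' l • ι (ut l) + f' • w') := by
      have h5 : uu.1.1 = ∑ l, residue R (a' l) • (b l).1.1 := by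
        simp only [uu, Submodule.coe_sum, Submodule.coe_smul]
      rw [h5]
      funext j
      change (∑ l, residue R (a' l) • (b l).1.1) j = red ((∑ l, a' l • ι (ut l) + f' • w') j)
      rw [Pi.add_apply, Finset.sum_apply, Finset.sum_apply, map_add, map_sum, Pi.smul_apply, red_smul,
        (IsLocalRing.residue_eq_zero_iff f').mpr hf'm, map_zero, zero_mul, add_zero]
      refine Finset.sum_congr rfl fun l _ => ?_
      rw [Pi.smul_apply, Pi.smul_apply, red_smul, red_poly, hlift₁, MvPolynomial.smul_eq_C_mul]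
    have hW : uu.1 ∈ W := by
      change uu.1.1 ∈ Nb
      rw [huu]
      exact ⟨_, hzN, rfl⟩
    have h6 : uu.1 = 0 := Submodule.disjoint_def.mp hU.disjoint uu.1 hW uu.2
    have h0 : uu = 0 := Submodule.coe_eq_zero.mp h6
    have h1 : (residue R (a' l₁) : k) = 0 := by
      have h7 := congrArg (fun z => b.repr z l₁) h0
      simp only [uu, map_sum, map_smul, map_zero, Finsupp.coe_zero, Pi.zero_apply,
        Module.Basis.repr_self, Finsupp.coe_finset_sum, Finset.sum_apply, Finsupp.smul_apply,
        Finsupp.single_apply, smul_eq_mul, mul_ite, mul_one, mul_zero, Finset.sum_ite_eq',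
        Finset.mem_univ, if_true] at h7
      exact h7
    have h2 : a' l₁ = 1 := mul_left_cancel₀ he0 ((ha' l₁).symm.trans (mul_one _).symm)
    rw [h2, map_one] at h1
    exact one_ne_zero h1

/-- Saturated submodules of `R⟨ζ⟩^s` are finitely generated, for a height one valuation ring. -/
theorem fg_of_saturated_pi [IsDomain R] [PreValuationRing R] [Ring.KrullDimLE 1 R] (ht0 : t ≠ 0)
    [IsAdicComplete (Ideal.span {t}) R] {s : ℕ}
    (N : Submodule (AdicRing.RPow R (Ideal.span {t}) n) (Fin s → AdicRing.RPow R (Ideal.span {t}) n))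
    (hN : ∀ x, t • x ∈ N → x ∈ N) : N.FG := by
  classical
  have ht := t_mem_maximalIdeal (R := R) (t := t)
  set Q := AdicRing.RPow R (Ideal.span {t}) n with hQ
  obtain ⟨m, g, c, hcm, hgN, claim⟩ := exists_step (Q := Q) ht ht0 (red ht) (red_poly ht)
    exists_poly_approx N hN
  let G : Submodule Q (Fin s → Q) := Submodule.span Q (Set.range g)
  have hiter : ∀ M : ℕ, ∀ x ∈ N, ∃ γ ∈ G, ∃ z ∈ N, x = γ + c ^ M • z := by
    intro M
    induction M with
    | zero => exact fun x hx => ⟨0, zero_mem _, x, hx, by rw [pow_zero, one_smul, zero_add]⟩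
    | succ M ih =>
      intro x hx
      obtain ⟨γ, hγ, z, hz, rfl⟩ := ih x hx
      obtain ⟨γ', hγ', z', hz', rfl⟩ := claim z hz
      exact ⟨γ + c ^ M • γ', add_mem hγ (G.smul_of_tower_mem _ hγ'), z', hz', by
        rw [smul_add, ← mul_smul, ← pow_succ, add_assoc]⟩
  obtain ⟨M, f, hf⟩ := exists_pow_dvd ht0 hcm
  haveI hQc := AdicCompletion.isAdicComplete_self _ (fg_J (t := t) (n := n))
  let J' := ((Ideal.span {t}).map (MvPolynomial.C : R →+* MvPolynomial (Fin n) R)).map
    (algebraMap (MvPolynomial (Fin n) R) Q)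
  haveI : IsHausdorff J' N := by
    refine ⟨fun x hx => Subtype.ext (funext fun j => IsHausdorff.haus (I := J') inferInstance _ fun i => ?_)⟩
    have h := SModEq.zero.mp (hx i)
    rw [SModEq.zero]
    have h' := Submodule.mem_map_of_mem (f := (LinearMap.proj j).comp N.subtype) h
    rw [Submodule.map_smul''] at h'
    exact Submodule.smul_mono le_rfl le_top h'
  have htJ : algebraMap R Q t ∈ J' :=
    Ideal.mem_map_of_mem _ (Ideal.mem_map_of_mem _ (Ideal.mem_span_singleton_self t))
  have htop := H24Adic.span_eq_top_of_sup_smul_eq_top J' (M := N) (fun i => (⟨g i, hgN i⟩ : N)) (by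
    refine eq_top_iff.mpr fun x _ => ?_
    obtain ⟨γ, hγ, z, hz, hxz⟩ := hiter M x.1 x.2
    obtain ⟨hh, rfl⟩ := (Submodule.mem_span_range_iff_exists_fun _).mp hγ
    have : x = (∑ i, hh i • (⟨g i, hgN i⟩ : N)) + algebraMap R Q t • (f • ⟨z, hz⟩ : N) := by
      refine Subtype.ext ?_
      rw [hxz, Submodule.coe_add, Submodule.coe_sum, Submodule.coe_smul, Submodule.coe_smul_of_tower,
        algebraMap_smul, ← mul_smul, ← hf]
      rfl
    rw [this]
    exact Submodule.add_mem_sup
      (Submodule.sum_mem _ fun i _ => Submodule.smul_mem _ _ (Submodule.subset_span ⟨i, rfl⟩))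
      (Submodule.smul_mem_smul htJ Submodule.mem_top))
  have hfin : Module.Finite Q N := ⟨⟨Finset.univ.image fun i => (⟨g i, hgN i⟩ : N), by
    rw [Finset.coe_image, Finset.coe_univ, Set.image_univ]; exact htop⟩⟩
  exact Module.Finite.iff_fg.mp hfin

end Groth.Agent.H24Val
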