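import Groth.Agent.H24Val.Transfer

/-!
Surjections from rings of restricted power series.
-/

universe u v

set_option linter.style.haveILetI false

namespace Groth.Agent.H24Val

open AdicRing

variable {R : Type u} [CommRing R] {I : Ideal R}

theorem isAdicComplete_completion (hI : I.FG) {P : Type v} [CommRing P] [Algebra R P] :
    IsAdicComplete I (AdicCompletion (I.map (algebraMap R P)) P) := by
  haveI h1 := AdicCompletion.isAdicComplete_self _ (hI.map (algebraMap R P))
  have h2 := (IsAdicComplete.map_algebraMap_iff (I := I.map (algebraMap R P))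
    (S := AdicCompletion (I.map (algebraMap R P)) P) (M := AdicCompletion (I.map (algebraMap R P)) P)).mp h1
  exact (IsAdicComplete.map_algebraMap_iff (I := I) (S := P)
    (M := AdicCompletion (I.map (algebraMap R P)) P)).mp h2

theorem exists_surjective (hI : I.FG) {B : Type v} [CommRing B] [Algebra R B]
    [IsAdicComplete (I.map (algebraMap R B)) B] {n : ℕ} (g : MvPolynomial (Fin n) R →ₐ[R] B)
    (hg : ∀ b : B, ∃ p, b - g p ∈ I.map (algebraMap R B)) :
    ∃ φ : RPow R I n →ₐ[R] B, Function.Surjective φ ∧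
      ∀ p, φ (algebraMap (MvPolynomial (Fin n) R) _ p) = g p := by
  obtain ⟨φ, hφ⟩ : ∃ φ : RPow R I n →ₐ[R] B,
      ∀ p, φ (algebraMap (MvPolynomial (Fin n) R) _ p) = g p := H24Adic.exists_algHom I g
  refine ⟨φ, ?_, hφ⟩
  haveI : IsAdicComplete I (RPow R I n) := isAdicComplete_completion (P := MvPolynomial (Fin n) R) hI
  haveI : IsAdicComplete I B := (IsAdicComplete.map_algebraMap_iff I B).mp ‹_›
  refine surjective_of_mkQ_comp_surjective (I := I) (f := φ.toLinearMap) fun z => ?_
  obtain ⟨b, rfl⟩ := Submodule.mkQ_surjective _ z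
  obtain ⟨p, hp⟩ := hg b
  refine ⟨algebraMap _ _ p, ?_⟩
  rw [LinearMap.comp_apply, AlgHom.toLinearMap_apply, hφ, Submodule.mkQ_apply, Submodule.mkQ_apply,
    Submodule.Quotient.eq, Ideal.smul_top_eq_map, Submodule.restrictScalars_mem, ← neg_mem_iff, neg_sub]
  exact hp

end Groth.Agent.H24Val
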