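import Groth.Agent.H24Val.Saturated
import Groth.Agent.H24Adic.Noetherian
import Mathlib.RingTheory.Flat.TorsionFree
import Mathlib.RingTheory.AdicCompletion.AsTensorProduct
import Mathlib.RingTheory.Filtration
import Mathlib.RingTheory.Finiteness.Basic

/-!
Finite modules over rings of restricted power series over a base ring of class (N) or (V).
-/

universe u v

open Submodule

namespace Groth.Agent.H24Val

open AdicRing

variable {R : Type u} [CommRing R] {I : Ideal R} {n : ℕ}

theorem fg_of_isBase (hR : IsBase R I) : I.FG := by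
  rcases hR.2 with ⟨hN, -⟩ | ⟨-, -, -, t, -, rfl⟩
  · exact IsNoetherian.noetherian I
  · exact Submodule.fg_span_singleton t

theorem isNoetherianRing_rPow [IsNoetherianRing R] : IsNoetherianRing (RPow R I n) := by
  have fg : (I.map (MvPolynomial.C : R →+* MvPolynomial (Fin n) R)).FG := IsNoetherian.noetherian _
  haveI := AdicCompletion.isAdicComplete_self _ fg
  haveI : IsNoetherianRing (RPow R I n ⧸ (I.map (MvPolynomial.C : R →+* MvPolynomial (Fin n) R)).map
      (algebraMap (MvPolynomial (Fin n) R) (RPow R I n))) := by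
    refine isNoetherianRing_of_surjective (MvPolynomial (Fin n) R) _
      ((Ideal.Quotient.mk _).comp (algebraMap (MvPolynomial (Fin n) R) (RPow R I n))) fun z => ?_
    obtain ⟨x, rfl⟩ := Ideal.Quotient.mk_surjective z
    obtain ⟨p, hp⟩ := H24Adic.exists_sub_of_mem fg 1 x
    rw [pow_one] at hp
    exact ⟨p, (Ideal.Quotient.eq.mpr hp).symm⟩
  exact H24Adic.isNoetherianRing_of_isAdicComplete _ (fg.map (algebraMap _ (RPow R I n)))

theorem isAdicComplete_rPow (hR : IsBase R I) : IsAdicComplete I (RPow R I n) := by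
  haveI h1 := AdicCompletion.isAdicComplete_self _
    (Ideal.FG.map (fg_of_isBase hR) (MvPolynomial.C : R →+* MvPolynomial (Fin n) R))
  have h2 := (IsAdicComplete.map_algebraMap_iff (I := I.map (MvPolynomial.C : R →+* MvPolynomial (Fin n) R))
    (S := RPow R I n) (M := RPow R I n)).mp h1
  exact (IsAdicComplete.map_algebraMap_iff (I := I) (S := MvPolynomial (Fin n) R) (M := RPow R I n)).mp h2

variable {M : Type v} [AddCommGroup M] [Module R M] [Module (RPow R I n) M]
  [IsScalarTower R (RPow R I n) M]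

theorem fg_of_saturated (hR : IsBase R I) [Module.Finite (RPow R I n) M]
    (N : Submodule (RPow R I n) M)
    (hsat : ∀ (x : M) (m : ℕ), (∀ a ∈ I ^ m, a • x ∈ N) → x ∈ N) : N.FG := by
  rcases hR with ⟨hc, ⟨hN, -⟩ | ⟨hdom, hpre, hdim, t, ht0, rfl⟩⟩
  · haveI := isNoetherianRing_rPow (R := R) (I := I) (n := n)
    exact IsNoetherian.noetherian N
  · haveI := isLocalRing_of_pre R
    obtain ⟨s, ψ, hψ⟩ := Module.Finite.exists_fin' (RPow R (Ideal.span {t}) n) M
    have h := fg_of_saturated_pi ht0 (N.comap ψ) fun x hx => hsat _ 1 fun a ha => by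
      rw [pow_one, Ideal.mem_span_singleton'] at ha
      obtain ⟨b, rfl⟩ := ha
      rw [mul_smul, ← LinearMap.map_smul_of_tower ψ t x]
      exact N.smul_of_tower_mem b hx
    have := h.map ψ
    rwa [Submodule.map_comap_eq_of_surjective hψ] at this

section Val

variable [IsDomain R] [PreValuationRing R] [Ring.KrullDimLE 1 R] {t : R}
variable {M : Type v} [AddCommGroup M] [Module R M] [Module (RPow R (Ideal.span {t}) n) M]
  [IsScalarTower R (RPow R (Ideal.span {t}) n) M]

/-- The elements a power of `t` of which lies in `N`. -/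
noncomputable def saturation (N : Submodule (RPow R (Ideal.span {t}) n) M) :
    Submodule (RPow R (Ideal.span {t}) n) M where
  carrier := {x | ∃ m : ℕ, t ^ m • x ∈ N}
  add_mem' := by
    rintro x y ⟨a, ha⟩ ⟨b, hb⟩
    refine ⟨a + b, ?_⟩
    rw [smul_add]
    refine add_mem ?_ ?_
    · rw [add_comm a b, pow_add, mul_smul]; exact N.smul_of_tower_mem _ ha
    · rw [pow_add, mul_smul]; exact N.smul_of_tower_mem _ hb
  zero_mem' := ⟨0, by rw [smul_zero]; exact zero_mem N⟩
  smul_mem' := by
    rintro c x ⟨a, ha⟩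
    refine ⟨a, ?_⟩
    rw [← smul_comm]
    exact N.smul_mem c ha

theorem exists_uniform [IsLocalRing R] [IsAdicComplete (Ideal.span {t}) R] (ht0 : t ≠ 0)
    [Module.Finite (RPow R (Ideal.span {t}) n) M] (N : Submodule (RPow R (Ideal.span {t}) n) M) :
    (saturation N).FG ∧ ∃ n₀ : ℕ, ∀ x ∈ saturation N, t ^ n₀ • x ∈ N := by
  have hfg : (saturation N).FG := fg_of_saturated
    (R := R) (I := Ideal.span {t}) ⟨‹_›, Or.inr ⟨‹_›, ‹_›, ‹_›, t, ht0, rfl⟩⟩ _ fun x m hx => by
      obtain ⟨j, hj⟩ := hx (t ^ m) (by rw [Ideal.span_singleton_pow]; exact Ideal.mem_span_singleton_self _)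
      exact ⟨j + m, by rw [pow_add, mul_smul]; exact hj⟩
  refine ⟨hfg, ?_⟩
  obtain ⟨a, g, hg⟩ := Submodule.fg_iff_exists_fin_generating_family.mp hfg
  choose e he using fun i => (show g i ∈ saturation N from hg ▸ Submodule.subset_span ⟨i, rfl⟩)
  refine ⟨Finset.univ.sup e, fun x hx => ?_⟩
  rw [← hg] at hx
  induction hx using Submodule.span_induction with
  | mem y hy =>
    obtain ⟨i, rfl⟩ := hy
    obtain ⟨d, hd⟩ := Nat.exists_eq_add_of_le (Finset.le_sup (f := e) (Finset.mem_univ i))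
    rw [hd, add_comm, pow_add, mul_smul]
    exact N.smul_of_tower_mem _ (he i)
  | zero => rw [smul_zero]; exact zero_mem N
  | add y z _ _ hy hz => rw [smul_add]; exact add_mem hy hz
  | smul c y _ hy => rw [smul_comm]; exact N.smul_mem c hy

omit [IsDomain R] [PreValuationRing R] [Ring.KrullDimLE 1 R] in
theorem exists_smul_eq {P : Type*} [AddCommGroup P] [Module R P] {m : ℕ} {x : P}
    (hx : x ∈ ((Ideal.span {t}) ^ m • ⊤ : Submodule R P)) : ∃ y, x = t ^ m • y := by
  rw [Ideal.span_singleton_pow, Submodule.ideal_span_singleton_smul] at hx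
  obtain ⟨y, -, rfl⟩ := hx
  exact ⟨y, rfl⟩

theorem isHausdorff_val [IsLocalRing R] [IsAdicComplete (Ideal.span {t}) R] (ht0 : t ≠ 0)
    [Module.Finite (RPow R (Ideal.span {t}) n) M] : IsHausdorff (Ideal.span {t}) M := by
  classical
  have hB : IsBase R (Ideal.span {t}) := ⟨‹_›, Or.inr ⟨‹_›, ‹_›, ‹_›, t, ht0, rfl⟩⟩
  haveI := isAdicComplete_rPow (n := n) hB
  obtain ⟨s, ψ, hψ⟩ := Module.Finite.exists_fin' (RPow R (Ideal.span {t}) n) M
  set K := saturation (t := t) (LinearMap.ker ψ) with hKdef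
  obtain ⟨hKfg, n₀, hn₀⟩ := exists_uniform ht0 (LinearMap.ker ψ)
  refine ⟨fun x hx => ?_⟩
  obtain ⟨y, rfl⟩ := hψ x
  have hx' : ∀ m, ∃ w, ψ y = t ^ m • ψ w := fun m => by
    obtain ⟨z, hz⟩ := exists_smul_eq (SModEq.zero.mp (hx m))
    obtain ⟨w, rfl⟩ := hψ z
    exact ⟨w, hz⟩
  choose w hw using hx'
  have hK : ∀ m, y - t ^ m • w m ∈ K := fun m => ⟨0, by
    rw [pow_zero, one_smul, LinearMap.mem_ker, map_sub, LinearMap.map_smul_of_tower, ← hw, sub_self]⟩
  haveI hKfin : Module.Finite (RPow R (Ideal.span {t}) n) K := Module.Finite.iff_fg.mpr hKfg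
  haveI : IsPrecomplete ((Ideal.span {t}).map (algebraMap R (RPow R (Ideal.span {t}) n)))
      (RPow R (Ideal.span {t}) n) :=
    ((IsAdicComplete.map_algebraMap_iff (I := Ideal.span {t}) (S := RPow R (Ideal.span {t}) n)
      (M := RPow R (Ideal.span {t}) n)).mpr inferInstance).toIsPrecomplete
  haveI : IsPrecomplete (Ideal.span {t}) K := (IsPrecomplete.map_algebraMap_iff
    (S := RPow R (Ideal.span {t}) n) (M := K)).mp (H24Adic.isPrecomplete_of_finite _)
  let f : ℕ → K := fun m => ⟨y - t ^ m • w m, hK m⟩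
  have hf : ∀ {a b}, a ≤ b → f a ≡ f b [SMOD ((Ideal.span {t}) ^ a • ⊤ : Submodule R K)] := by
    intro a b hab
    obtain ⟨d, rfl⟩ := Nat.exists_eq_add_of_le hab
    rw [SModEq.sub_mem]
    have h1 : (f a - f (a + d)).1 = t ^ a • (t ^ d • w (a + d) - w a) := by
      change (y - t ^ a • w a) - (y - t ^ (a + d) • w (a + d)) = _
      rw [smul_sub, ← mul_smul, ← pow_add]
      abel
    have h2 : t ^ d • w (a + d) - w a ∈ K := by
      obtain ⟨j, hj⟩ := (f a - f (a + d)).2
      refine ⟨j + a, ?_⟩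
      rw [pow_add, mul_smul, ← h1]
      exact hj
    rw [show f a - f (a + d) = t ^ a • (⟨_, h2⟩ : K) from Subtype.ext h1]
    exact Submodule.smul_mem_smul (Ideal.pow_mem_pow (Ideal.mem_span_singleton_self t) a) Submodule.mem_top
  obtain ⟨L, hL⟩ := IsPrecomplete.prec (I := Ideal.span {t}) inferInstance hf
  have hyK : y ∈ K := by
    have : y = L.1 := by
      refine funext fun j => sub_eq_zero.mp (IsHausdorff.haus (I := Ideal.span {t})
        inferInstance _ fun m => ?_)
      rw [SModEq.sub_mem, sub_zero]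
      obtain ⟨z, hz⟩ := exists_smul_eq (SModEq.sub_mem.mp (hL m))
      have h3 : y j - L.1 j = t ^ m • (w m j + z.1 j) := by
        have := congrArg (fun q : K => q.1 j) hz
        simp only [f, Submodule.coe_sub, Pi.sub_apply, Submodule.coe_smul_of_tower, Pi.smul_apply] at this
        rw [smul_add, ← this]
        abel
      rw [h3]
      exact Submodule.smul_mem_smul (Ideal.pow_mem_pow (Ideal.mem_span_singleton_self t) m) Submodule.mem_top
    exact this ▸ L.2
  have hwK : w n₀ ∈ K := by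
    obtain ⟨j, hj⟩ := hyK
    refine ⟨j + n₀, ?_⟩
    rw [LinearMap.mem_ker, LinearMap.map_smul_of_tower, pow_add, mul_smul, ← hw,
      ← LinearMap.map_smul_of_tower]
    exact hj
  rw [hw n₀, ← LinearMap.map_smul_of_tower]
  exact hn₀ _ hwK

theorem exists_artinRees_val [IsLocalRing R] [IsAdicComplete (Ideal.span {t}) R] (ht0 : t ≠ 0)
    [Module.Finite (RPow R (Ideal.span {t}) n) M] (N : Submodule (RPow R (Ideal.span {t}) n) M) :
    ∃ n₀ : ℕ, ∀ m : ℕ, ((Ideal.span {t}) ^ (m + n₀) • (⊤ : Submodule R M)) ⊓ N.restrictScalars R ≤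
      (Ideal.span {t}) ^ m • N.restrictScalars R := by
  obtain ⟨-, n₀, hn₀⟩ := exists_uniform ht0 N
  refine ⟨n₀, fun m x hx => ?_⟩
  obtain ⟨y, rfl⟩ := exists_smul_eq hx.1
  have hy : t ^ n₀ • y ∈ N := hn₀ y ⟨m + n₀, hx.2⟩
  rw [pow_add, mul_smul]
  exact Submodule.smul_mem_smul (Ideal.pow_mem_pow (Ideal.mem_span_singleton_self t) m) hy

end Val

theorem isAdicComplete_of_finite_rPow (hR : IsBase R I) [Module.Finite (RPow R I n) M] :
    IsAdicComplete I M := by
  haveI := isAdicComplete_rPow (n := n) hR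
  haveI hQ : IsAdicComplete (I.map (algebraMap R (RPow R I n))) (RPow R I n) :=
    (IsAdicComplete.map_algebraMap_iff (I := I) (S := RPow R I n) (M := RPow R I n)).mpr inferInstance
  haveI : IsPrecomplete I M := (IsPrecomplete.map_algebraMap_iff
    (S := RPow R I n) (M := M)).mp (H24Adic.isPrecomplete_of_finite _)
  haveI : IsHausdorff I M := by
    rcases hR with ⟨hc, ⟨hN, -⟩ | ⟨hdom, hpre, hdim, t, ht0, rfl⟩⟩
    · haveI := isNoetherianRing_rPow (R := R) (I := I) (n := n)
      exact (IsHausdorff.map_algebraMap_iff (I := I) (S := RPow R I n) (M := M)).mp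
        (IsHausdorff.of_le_jacobson _ M (IsAdicComplete.le_jacobson_bot _))
    · haveI := isLocalRing_of_pre R
      exact isHausdorff_val (n := n) ht0
  constructor

theorem exists_artinRees (hR : IsBase R I) [Module.Finite (RPow R I n) M]
    (N : Submodule (RPow R I n) M) :
    ∃ n₀ : ℕ, ∀ m : ℕ, (I ^ (m + n₀) • (⊤ : Submodule R M)) ⊓ N.restrictScalars R ≤
      I ^ m • N.restrictScalars R := by
  rcases hR with ⟨hc, ⟨hN, -⟩ | ⟨hdom, hpre, hdim, t, ht0, rfl⟩⟩
  · haveI := isNoetherianRing_rPow (R := R) (I := I) (n := n)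
    obtain ⟨k, hk⟩ := Ideal.exists_pow_inf_eq_pow_smul (I.map (algebraMap R (RPow R I n))) N
    refine ⟨k, fun m x hx => ?_⟩
    have h1 : x ∈ (I.map (algebraMap R (RPow R I n))) ^ (m + k) • (⊤ : Submodule (RPow R I n) M) ⊓ N := by
      refine ⟨?_, hx.2⟩
      rw [SetLike.mem_coe, ← Ideal.map_pow, ← Submodule.restrictScalars_mem R, Submodule.restrictScalars_map_smul_eq]
      exact hx.1
    rw [hk _ (Nat.le_add_left k m), Nat.add_sub_cancel, ← Ideal.map_pow,
      ← Submodule.restrictScalars_mem R, Submodule.restrictScalars_map_smul_eq] at h1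
    refine Submodule.smul_mono le_rfl ?_ h1
    intro z hz
    rw [Submodule.restrictScalars_mem, Submodule.mem_inf] at hz
    exact hz.2
  · haveI := isLocalRing_of_pre R
    exact exists_artinRees_val ht0 N

theorem fg_ker_of_noPowTorsion (hR : IsBase R I) {s : ℕ}
    (f : (Fin s → RPow R I n) →ₗ[RPow R I n] M)
    (hM : ∀ (x : M) (m : ℕ), (∀ a ∈ I ^ m, a • x = 0) → x = 0) : (LinearMap.ker f).FG :=
  fg_of_saturated hR _ fun x m hx => LinearMap.mem_ker.mpr (hM _ m fun a ha => by
    rw [← LinearMap.map_smul_of_tower]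
    exact hx a ha)

theorem noPowTorsion_rPow_val {R : Type u} [CommRing R] [IsDomain R] {t : R} (ht0 : t ≠ 0) {n : ℕ}
    [IsAdicComplete (Ideal.span {t}) (RPow R (Ideal.span {t}) n)]
    (x : RPow R (Ideal.span {t}) n) (hx : t • x = 0) : x = 0 := by
  refine IsHausdorff.haus (I := Ideal.span {t}) inferInstance x fun m => ?_
  rw [SModEq.zero]
  obtain ⟨p, y, hp⟩ := exists_poly_approx x (m + 1)
  have hz : algebraMap (MvPolynomial (Fin n) R) (RPow R (Ideal.span {t}) n) (t • p + 0) =
      t • algebraMap _ (RPow R (Ideal.span {t}) n) p := by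
    rw [add_zero]
    exact map_smul (IsScalarTower.toAlgHom R (MvPolynomial (Fin n) R) (RPow R (Ideal.span {t}) n)) t p
  rw [add_zero] at hz
  have h1 : t • algebraMap _ (RPow R (Ideal.span {t}) n) p = -(t ^ (m + 2) • y) := by
    rw [sub_eq_iff_eq_add] at hp
    rw [hp, smul_add, ← mul_smul, ← pow_succ'] at hx
    exact eq_neg_of_add_eq_zero_right hx
  have h2 : t • p ∈ ((Ideal.span {t}).map (MvPolynomial.C : R →+* MvPolynomial (Fin n) R)) ^ (m + 2) := by
    have h3 := congrArg (AdicCompletion.evalₐ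
      ((Ideal.span {t}).map (MvPolynomial.C : R →+* MvPolynomial (Fin n) R)) (m + 2))
      (hz.trans h1)
    rw [show AdicCompletion.evalₐ _ (m + 2) (algebraMap _ (RPow R (Ideal.span {t}) n) (t • p)) =
      Ideal.Quotient.mk _ (t • p) from AdicCompletion.evalₐ_of _ _ _, map_neg] at h3
    rw [← Ideal.Quotient.eq_zero_iff_mem]
    refine h3.trans ?_
    rw [neg_eq_zero, show (t ^ (m + 2)) • y = algebraMap (MvPolynomial (Fin n) R) (RPow R (Ideal.span {t}) n)
        (MvPolynomial.C (t ^ (m + 2))) * y from by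
      rw [Algebra.smul_def, IsScalarTower.algebraMap_apply R (MvPolynomial (Fin n) R) (RPow R (Ideal.span {t}) n),
        MvPolynomial.algebraMap_eq], map_mul]
    refine mul_eq_zero_of_left ?_ _
    refine (AdicCompletion.evalₐ_of _ _ _).trans ?_
    rw [Ideal.Quotient.eq_zero_iff_mem, map_pow]
    exact Ideal.pow_mem_pow (Ideal.mem_map_of_mem _ (Ideal.mem_span_singleton_self t)) _
  rw [← Ideal.map_pow, Ideal.span_singleton_pow, Ideal.map_span, Set.image_singleton,
    Ideal.mem_span_singleton', MvPolynomial.smul_eq_C_mul] at h2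
  obtain ⟨q, hq⟩ := h2
  have h4 : p = q * MvPolynomial.C (t ^ (m + 1)) := by
    refine mul_left_cancel₀ (fun h => ht0 (MvPolynomial.C_injective (Fin n) R (h.trans (map_zero _).symm))) ?_
    rw [← hq, pow_succ' t (m + 1), map_mul]
    ring
  have h5 : x = t ^ m • (t • y + t • algebraMap _ (RPow R (Ideal.span {t}) n) q) := by
    rw [sub_eq_iff_eq_add.mp hp, h4, map_mul, smul_add, ← mul_smul, ← mul_smul, ← pow_succ,
      Algebra.smul_def (t ^ (m + 1)) (algebraMap _ (RPow R (Ideal.span {t}) n) q),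
      IsScalarTower.algebraMap_apply R (MvPolynomial (Fin n) R) (RPow R (Ideal.span {t}) n),
      MvPolynomial.algebraMap_eq]
    ring
  rw [h5]
  exact Submodule.smul_mem_smul (Ideal.pow_mem_pow (Ideal.mem_span_singleton_self t) m) Submodule.mem_top

theorem flat_rPow (hR : IsBase R I) : Module.Flat R (RPow R I n) := by
  rcases hR with ⟨hc, ⟨hN, -⟩ | ⟨hdom, hpre, hdim, t, ht0, rfl⟩⟩
  · haveI : Module.Flat (MvPolynomial (Fin n) R) (RPow R I n) := AdicCompletion.flat_of_isNoetherian _
    exact Module.Flat.trans R (MvPolynomial (Fin n) R) (RPow R I n)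
  · haveI : ValuationRing R := { }
    haveI := isLocalRing_of_pre R
    haveI := isAdicComplete_rPow (n := n) (⟨hc, Or.inr ⟨hdom, hpre, hdim, t, ht0, rfl⟩⟩ : IsBase R (Ideal.span {t}))
    rw [Module.Flat.flat_iff_torsion_eq_bot_of_isBezout, eq_bot_iff]
    rintro x ⟨⟨a, ha⟩, hax⟩
    obtain ⟨N, b, hb⟩ := exists_pow_dvd (nonZeroDivisors.ne_zero ha)
      (t_mem_maximalIdeal (R := R) (t := t))
    have hax' : a • x = 0 := hax
    have h1 : t ^ N • x = 0 := by rw [hb, mul_comm, mul_smul, hax', smul_zero]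
    clear hb
    rw [Submodule.mem_bot]
    induction N with
    | zero => rwa [pow_zero, one_smul] at h1
    | succ N ih => exact ih (noPowTorsion_rPow_val ht0 _ (by rwa [← mul_smul, ← pow_succ']))

end Groth.Agent.H24Val
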